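import Mathlib
import Cfsg.Agent.Lib.Helper22.GAlg
import Cfsg.Agent.Lib.Helper46.Ind

/-!
# Fong–Reynolds, algebraic core (helper33)

`conv_ind_conv`: if `A` is an idempotent of the group algebra (functions with convolution),
invariant under conjugation by `T` and orthogonal to its conjugates by elements outside `T`,
then `A * Ind_T^G (A * F) = A * F` for every `T`-invariant `F`.
`conv_res_ind_conv`: the same on the level of class functions of `T`.
-/

set_option autoImplicit false

namespace Cfsg.Agent.Lib.Helper33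

open Cfsg Cfsg.Agent.Lib.Helper4 Cfsg.Agent.Lib.Helper21 Cfsg.Agent.Lib.Helper22
open scoped ComplexConjugate

section FRAlg

variable {G : Type*} [Group G] [Fintype G]

/-- conjugation-substitution in a convolution -/
theorem conv_conj_apply (A W : G → ℂ) (x g : G) :
    ∑ h, A h * W (x⁻¹ * (h⁻¹ * g) * x) =
      conv (fun k => A (x * k * x⁻¹)) W (x⁻¹ * g * x) := by
  rw [conv_apply]
  refine (Fintype.sum_equiv (MulAut.conj x).toEquiv
    (fun k => A (x * k * x⁻¹) * W (k⁻¹ * (x⁻¹ * g * x)))
    (fun h => A h * W (x⁻¹ * (h⁻¹ * g) * x)) (fun k => ?_)).symm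
  simp only [MulEquiv.toEquiv_eq_coe, EquivLike.coe_coe, MulAut.conj_apply]
  congr 2
  group

open scoped Classical in
theorem sum_ite_mem_subgroup (T : Subgroup G) (c : ℂ) :
    ∑ x : G, (if x ∈ T then c else 0) = (Nat.card T : ℂ) * c := by
  classical
  rw [← Finset.sum_filter, Finset.sum_const, nsmul_eq_mul]
  congr 2
  rw [Nat.card_eq_fintype_card, Fintype.card_subtype]

/-- The algebraic core of the Fong–Reynolds correspondence. -/
theorem conv_ind_conv (T : Subgroup G) (A F : G → ℂ) (hA2 : conv A A = A)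
    (hA3 : ∀ x ∈ T, ∀ g, A (x * g * x⁻¹) = A g)
    (hA4 : ∀ x, x ∉ T → conv (fun g => A (x * g * x⁻¹)) A = 0)
    (hF : ∀ x ∈ T, ∀ g, F (x⁻¹ * g * x) = F g) :
    conv A (fun g => (Nat.card T : ℂ)⁻¹ * ∑ x : G, conv A F (x⁻¹ * g * x)) = conv A F := by
  classical
  have hW : ∀ x ∈ T, ∀ g, conv A F (x⁻¹ * g * x) = conv A F g := by
    intro x hx g
    rw [conv_apply, conv_apply]
    refine Fintype.sum_equiv (MulAut.conj x).toEquiv
      (fun h => A h * F (h⁻¹ * (x⁻¹ * g * x))) (fun k => A k * F (k⁻¹ * g)) (fun h => ?_)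
    simp only [MulEquiv.toEquiv_eq_coe, EquivLike.coe_coe, MulAut.conj_apply]
    rw [hA3 x hx h]
    congr 1
    rw [← hF x hx ((x * h * x⁻¹)⁻¹ * g)]
    congr 1
    group
  funext g
  have h1 : ∀ x : G, ∑ h, A h * conv A F (x⁻¹ * (h⁻¹ * g) * x) =
      if x ∈ T then conv A F g else 0 := by
    intro x
    rw [conv_conj_apply, ← conv_assoc]
    split_ifs with hx
    · have h2 : (fun k => A (x * k * x⁻¹)) = A := funext (hA3 x hx)
      rw [h2, hA2, hW x hx]
    · rw [hA4 x hx]
      simp [conv_apply]
  calc conv A (fun g => (Nat.card T : ℂ)⁻¹ * ∑ x : G, conv A F (x⁻¹ * g * x)) g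
      = ∑ h, A h * ((Nat.card T : ℂ)⁻¹ * ∑ x : G, conv A F (x⁻¹ * (h⁻¹ * g) * x)) := by
        rw [conv_apply]
    _ = (Nat.card T : ℂ)⁻¹ * ∑ x : G, ∑ h, A h * conv A F (x⁻¹ * (h⁻¹ * g) * x) := by
        rw [Finset.sum_comm, Finset.mul_sum]
        refine Finset.sum_congr rfl fun h _ => ?_
        rw [Finset.mul_sum, Finset.mul_sum, Finset.mul_sum]
        refine Finset.sum_congr rfl fun x _ => ?_
        ring
    _ = (Nat.card T : ℂ)⁻¹ * ∑ x : G, (if x ∈ T then conv A F g else 0) := by
        congr 1
        exact Finset.sum_congr rfl fun x _ => h1 x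
    _ = conv A F g := by
        rw [sum_ite_mem_subgroup, ← mul_assoc, inv_mul_cancel₀, one_mul]
        exact_mod_cast (Nat.card_pos (α := T)).ne'

/-- extension by zero commutes with convolution -/
theorem ext_conv (T : Subgroup G) [Fintype T] (a c : T → ℂ) :
    extendByZero T (conv a c) = conv (extendByZero T a) (extendByZero T c) := by
  funext g
  rw [conv_apply, Helper46.sum_extendByZero_mul T a (fun h => extendByZero T c (h⁻¹ * g))]
  by_cases hg : g ∈ T
  · rw [Helper46.extendByZero_of_mem T _ hg, conv_apply]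
    refine Finset.sum_congr rfl fun t _ => ?_
    congr 1
    have h1 : (t : G)⁻¹ * g = ((t⁻¹ * ⟨g, hg⟩ : T) : G) := by
      simp
    rw [h1, Helper46.extendByZero_coe]
  · rw [Helper46.extendByZero_of_not_mem T _ hg]
    symm
    refine Finset.sum_eq_zero fun t _ => ?_
    have h1 : (t : G)⁻¹ * g ∉ T := by
      intro h
      apply hg
      have := T.mul_mem t.2 h
      simpa using this
    rw [Helper46.extendByZero_of_not_mem T _ h1, mul_zero]

/-- value of a convolution with a function extended by zero -/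
theorem conv_ext_apply (T : Subgroup G) [Fintype T] (a : T → ℂ) (Φ : G → ℂ) (g : G) :
    conv (extendByZero T a) Φ g = ∑ t : T, a t * Φ ((t : G)⁻¹ * g) := by
  rw [conv_apply, Helper46.sum_extendByZero_mul T a (fun h => Φ (h⁻¹ * g))]

omit [Fintype G] in
theorem ext_classFunction_conj (T : Subgroup G) (a : T → ℂ) (ha : IsClassFunction T a)
    (x : G) (hx : x ∈ T) (g : G) : extendByZero T a (x * g * x⁻¹) = extendByZero T a g := by
  have := Helper46.extendByZero_conj T a ha ⟨x⁻¹, T.inv_mem hx⟩ g
  simpa using this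

omit [Fintype G] in
theorem ext_classFunction_conj' (T : Subgroup G) (a : T → ℂ) (ha : IsClassFunction T a)
    (x : G) (hx : x ∈ T) (g : G) : extendByZero T a (x⁻¹ * g * x) = extendByZero T a g :=
  Helper46.extendByZero_conj T a ha ⟨x, hx⟩ g

/-- The algebraic core of the Fong–Reynolds correspondence on the level of `T`. -/
theorem conv_res_ind_conv (T : Subgroup G) [Fintype T] (a c : T → ℂ) (ha2 : conv a a = a)
    (ha : IsClassFunction T a) (hc : IsClassFunction T c)
    (ha4 : ∀ x : G, x ∉ T →
      conv (fun g => extendByZero T a (x * g * x⁻¹)) (extendByZero T a) = 0) :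
    conv a (fun u : T => indFun T (conv a c) (u : G)) = conv a c := by
  have hA2 : conv (extendByZero T a) (extendByZero T a) = extendByZero T a := by
    rw [← ext_conv, ha2]
  have key := conv_ind_conv T (extendByZero T a) (extendByZero T c) hA2
    (fun x hx g => ext_classFunction_conj T a ha x hx g) ha4
    (fun x hx g => ext_classFunction_conj' T c hc x hx g)
  have hΦ : (fun g => (Nat.card T : ℂ)⁻¹ *
      ∑ x : G, conv (extendByZero T a) (extendByZero T c) (x⁻¹ * g * x)) =
      indFun T (conv a c) := by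
    funext g
    unfold indFun
    rw [ext_conv]
  rw [hΦ] at key
  funext u
  have h1 := congrFun key (u : G)
  rw [conv_ext_apply, ← ext_conv, Helper46.extendByZero_coe] at h1
  rw [← h1, conv_apply]
  refine Finset.sum_congr rfl fun t _ => ?_
  congr 2

end FRAlg

end Cfsg.Agent.Lib.Helper33
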