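import Mathlib
import Cfsg.Agent.Lib.Helper33.FRAlg
import Cfsg.Agent.Lib.Helper22.Cover

/-!
# Fong–Reynolds, character-theoretic part (helper33)

`N` is a normal subgroup of `G`, `b` a set of irreducible characters of `N` and `T ≥ N` a
subgroup which is the stabilizer of `b` in the sense `IsStab`: conjugation by elements of `T`
preserves `b`, conjugation by elements outside `T` moves `b` off itself.  (For a block `b`
the stabilizer of `b` has this property.)

Main results: `classInner_ind_ind` (induction is an isometry on the characters of `T` lying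
over `b`), `ind_irr` (Clifford correspondence), `exists_ind_eq` (every irreducible character of
`G` over `b` is induced) and `omega_ind_ind` (central characters of `T` are recovered from the
central characters of `G`).
-/

set_option autoImplicit false

namespace Cfsg.Agent.Lib.Helper33

open Cfsg Cfsg.Agent.Lib.Helper4 Cfsg.Agent.Lib.Helper21 Cfsg.Agent.Lib.Helper22
  Cfsg.Agent.Lib.Helper20
open scoped ComplexConjugate

section KLevel

variable {K : Type*} [Group K] [Fintype K]

theorem conv_blockCoeff_self (A : Set (IrrCharacter K)) :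
    conv (blockCoeff A) (blockCoeff A) = blockCoeff A := by
  classical
  refine eq_of_omega_eq _ _ (conv_isClassFunction (blockCoeff_isClassFunction A)
    (blockCoeff_isClassFunction A)) (blockCoeff_isClassFunction A) (fun ψ => ?_)
  rw [omega_conv ψ _ _ (blockCoeff_isClassFunction A) (blockCoeff_isClassFunction A),
    omega_blockCoeff]
  split_ifs <;> simp

end KLevel

section NLevel

variable {G : Type*} [Group G] [Fintype G] (N : Subgroup G) [hN : N.Normal] [Fintype N]

omit [Fintype G] [Fintype N] in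
theorem conjFun_isClassFunction {f : N → ℂ} (hf : IsClassFunction N f) (x : G) :
    IsClassFunction N (conjFun N f x) := by
  intro n k
  rw [conjFun_apply, conjFun_apply]
  have := hf ⟨x * n * x⁻¹, hN.conj_mem n n.2 x⟩ ⟨x * k * x⁻¹, hN.conj_mem k k.2 x⟩
  rw [← this]
  congr 1
  apply Subtype.ext
  show x * ((k : G) * n * (k : G)⁻¹) * x⁻¹ = x * k * x⁻¹ * (x * n * x⁻¹) * (x * k * x⁻¹)⁻¹
  group

omit [Fintype G] in
theorem omega_conjFun (φ f : N → ℂ) (x : G) :
    omega φ (conjFun N f x) = omega (conjFun N φ x⁻¹) f := by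
  rw [omega_def, omega_def]
  have h1 : conjFun N φ x⁻¹ 1 = φ 1 := by
    rw [conjFun_apply]
    congr 1
    apply Subtype.ext
    simp
  rw [h1]
  congr 1
  refine Fintype.sum_equiv (MulAut.conjNormal x : N ≃* N).toEquiv _ _ (fun n => ?_)
  have e1 : conjFun N f x n = f ((MulAut.conjNormal x : N ≃* N).toEquiv n) := by
    rw [conjFun_apply]
    congr 1
  have e2 : conjFun N φ x⁻¹ ((MulAut.conjNormal x : N ≃* N).toEquiv n) = φ n := by
    rw [conjFun_apply]
    congr 1
    apply Subtype.ext
    simp [MulAut.conjNormal_apply]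
    group
  rw [e1, e2]

open scoped Classical in
omit [Fintype G] in
theorem omega_conjFun_blockCoeff (A : Set (IrrCharacter N)) (φ : IrrCharacter N) (x : G) :
    omega (φ : N → ℂ) (conjFun N (blockCoeff A) x) =
      if irrConjFun N φ x⁻¹ ∈ A then 1 else 0 := by
  rw [omega_conjFun, ← irrConjFun_coe, omega_blockCoeff]

omit [Fintype G] in
theorem conjFun_blockCoeff_of_stable (A : Set (IrrCharacter N)) (x : G)
    (h : ∀ φ : IrrCharacter N, irrConjFun N φ x⁻¹ ∈ A ↔ φ ∈ A) :
    conjFun N (blockCoeff A) x = blockCoeff A := by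
  classical
  refine eq_of_omega_eq _ _ (conjFun_isClassFunction N (blockCoeff_isClassFunction A) x)
    (blockCoeff_isClassFunction A) (fun ψ => ?_)
  rw [omega_conjFun_blockCoeff, omega_blockCoeff]
  by_cases hψ : ψ ∈ A
  · rw [if_pos hψ, if_pos ((h ψ).mpr hψ)]
  · rw [if_neg hψ, if_neg (fun h' => hψ ((h ψ).mp h'))]

omit [Fintype G] in
theorem conv_conjFun_blockCoeff_of_disjoint (A : Set (IrrCharacter N)) (x : G)
    (h : ∀ φ : IrrCharacter N, φ ∈ A → irrConjFun N φ x⁻¹ ∉ A) :
    conv (conjFun N (blockCoeff A) x) (blockCoeff A) = 0 := by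
  classical
  refine eq_zero_of_omega_eq_zero _ (conv_isClassFunction
    (conjFun_isClassFunction N (blockCoeff_isClassFunction A) x)
    (blockCoeff_isClassFunction A)) (fun ψ => ?_)
  rw [omega_conv ψ _ _ (conjFun_isClassFunction N (blockCoeff_isClassFunction A) x)
    (blockCoeff_isClassFunction A), omega_conjFun_blockCoeff, omega_blockCoeff]
  by_cases hψ : ψ ∈ A
  · rw [if_neg (h ψ hψ), zero_mul]
  · rw [if_neg hψ, mul_zero]

end NLevel

section TLevel

variable {G : Type*} [Group G] [Fintype G] (N : Subgroup G) [hN : N.Normal] [Fintype N]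
  (T : Subgroup G) [Fintype T]

/-- `T` is the stabilizer of the set `b` of irreducible characters of `N`: conjugation by the
elements of `T` preserves `b`, conjugation by an element outside `T` moves `b` off itself. -/
def IsStab (b : Set (IrrCharacter N)) : Prop :=
  (∀ x : G, x ∈ T → ∀ φ : IrrCharacter N, irrConjFun N φ x⁻¹ ∈ b ↔ φ ∈ b) ∧
  (∀ x : G, x ∉ T → ∀ φ : IrrCharacter N, φ ∈ b → irrConjFun N φ x⁻¹ ∉ b)

/-- The idempotent of `b`, as a function on `G`. -/
noncomputable def bG (b : Set (IrrCharacter N)) : G → ℂ := extendByZero N (blockCoeff b)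

/-- The idempotent of `b`, as a function on `T`. -/
noncomputable def bT (b : Set (IrrCharacter N)) : T → ℂ := fun t => bG N b (t : G)

omit [Fintype G] [Fintype N] in
theorem bG_conj_eq (b : Set (IrrCharacter N)) (x : G) :
    (fun g => bG N b (x * g * x⁻¹)) = extendByZero N (conjFun N (blockCoeff b) x) := by
  funext g
  by_cases hg : g ∈ N
  · have hx' : x * g * x⁻¹ ∈ N := hN.conj_mem g hg x
    simp only [bG]
    rw [Helper46.extendByZero_of_mem N _ hx', Helper46.extendByZero_of_mem N _ hg,
      conjFun_apply]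
  · have hx' : x * g * x⁻¹ ∉ N := by
      intro h
      apply hg
      have := hN.conj_mem _ h x⁻¹
      have e : x⁻¹ * (x * g * x⁻¹) * x⁻¹⁻¹ = g := by group
      rwa [e] at this
    simp only [bG]
    rw [Helper46.extendByZero_of_not_mem N _ hx', Helper46.extendByZero_of_not_mem N _ hg]

omit [Fintype G] [Fintype T] in
theorem bG_conj_of_mem {b : Set (IrrCharacter N)} (hst : IsStab N T b) (x : G) (hx : x ∈ T)
    (g : G) : bG N b (x * g * x⁻¹) = bG N b g := by
  have h1 := congrFun (bG_conj_eq N b x) g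
  rw [conjFun_blockCoeff_of_stable N b x (hst.1 x hx)] at h1
  exact h1

omit [Fintype G] [Fintype N] [Fintype T] hN in
theorem ext_bT (hNT : N ≤ T) (b : Set (IrrCharacter N)) :
    extendByZero T (bT N T b) = bG N b := by
  funext g
  by_cases hg : g ∈ T
  · rw [Helper46.extendByZero_of_mem T _ hg]
    rfl
  · rw [Helper46.extendByZero_of_not_mem T _ hg]
    symm
    exact Helper46.extendByZero_of_not_mem N _ (fun h => hg (hNT h))

omit [Fintype G] [Fintype T] in
theorem bT_isClassFunction {b : Set (IrrCharacter N)} (hst : IsStab N T b) :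
    IsClassFunction T (bT N T b) := by
  intro u t
  have := bG_conj_of_mem N T hst t t.2 u
  simpa [bT] using this

omit hN in
theorem conv_bG (b : Set (IrrCharacter N)) : conv (bG N b) (bG N b) = bG N b := by
  unfold bG
  rw [← ext_conv, conv_blockCoeff_self]

omit hN in
theorem conv_bT (hNT : N ≤ T) (b : Set (IrrCharacter N)) :
    conv (bT N T b) (bT N T b) = bT N T b := by
  funext u
  have h := congrFun (ext_conv T (bT N T b) (bT N T b)) (u : G)
  rw [ext_bT N T hNT, conv_bG, Helper46.extendByZero_coe] at h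
  exact h

omit [Fintype T] in
theorem bT_orth (hNT : N ≤ T) {b : Set (IrrCharacter N)} (hst : IsStab N T b) (x : G)
    (hx : x ∉ T) :
    conv (fun g => extendByZero T (bT N T b) (x * g * x⁻¹)) (extendByZero T (bT N T b)) = 0 := by
  rw [ext_bT N T hNT, bG_conj_eq]
  unfold bG
  rw [← ext_conv, conv_conjFun_blockCoeff_of_disjoint N b x (hst.2 x hx)]
  exact Helper35.ext_zero N

/-- The algebraic core of the Fong–Reynolds correspondence for the idempotent of `b`. -/
theorem star_bT (hNT : N ≤ T) {b : Set (IrrCharacter N)} (hst : IsStab N T b) (c : T → ℂ)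
    (hc : IsClassFunction T c) :
    conv (bT N T b) (fun u : T => indFun T (conv (bT N T b) c) (u : G)) = conv (bT N T b) c :=
  conv_res_ind_conv T (bT N T b) c (conv_bT N T hNT b) (bT_isClassFunction N T hst) hc
    (bT_orth N T hNT hst)

end TLevel

section KChar

variable {K : Type*} [Group K] [Fintype K]

theorem omega_conj_eq (ξ ψ : K → ℂ) :
    omega ξ (fun u => conj (ψ u)) = (Nat.card K : ℂ) * classInner ξ ψ / ξ 1 := by
  have hK : (Nat.card K : ℂ) ≠ 0 := by exact_mod_cast (Nat.card_pos (α := K)).ne'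
  rw [omega_def]
  congr 1
  unfold classInner
  rw [← mul_assoc, mul_inv_cancel₀ hK, one_mul]
  exact Finset.sum_congr rfl fun _ _ => mul_comm _ _

theorem conv_conj_irr (a : K → ℂ) (ha : IsClassFunction K a) (ψ : IrrCharacter K) :
    conv a (fun u => conj ((ψ : K → ℂ) u)) =
      omega (ψ : K → ℂ) a • (fun u => conj ((ψ : K → ℂ) u)) := by
  classical
  have hψc : IsClassFunction K (fun u => conj ((ψ : K → ℂ) u)) := by
    intro g h
    simp only
    rw [isClassFunction_irr ψ g h]
  have hψc' : IsClassFunction K (omega (ψ : K → ℂ) a • (fun u => conj ((ψ : K → ℂ) u))) := by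
    intro g h
    simp only [Pi.smul_apply]
    rw [isClassFunction_irr ψ g h]
  refine eq_of_omega_eq _ _ (conv_isClassFunction ha hψc) hψc' (fun ξ => ?_)
  rw [omega_conv ξ _ _ ha hψc, omega_smul, omega_conj_eq, classInner_irr]
  split_ifs with h
  · rw [h]
  · simp

end KChar

section CharLevel

variable {G : Type*} [Group G] [Fintype G] (N : Subgroup G) [hN : N.Normal] [Fintype N]
  (T : Subgroup G) [Fintype T] (hNT : N ≤ T)

/-- Restriction of a function on `T` to `N ≤ T`. -/
def resN (ψ : T → ℂ) : N → ℂ := fun n => ψ ⟨(n : G), hNT n.2⟩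

/-- `ψ` lies over `b`: some member of `b` is a constituent of the restriction of `ψ` to `N`. -/
def OverB (b : Set (IrrCharacter N)) (ψ : T → ℂ) : Prop :=
  ∃ θ ∈ b, classInner (resN N T hNT ψ) (θ : N → ℂ) ≠ 0

omit [Fintype G] [Fintype N] [Fintype T] hN in
theorem resN_isClassFunction {ψ : T → ℂ} (hψ : IsClassFunction T ψ) :
    IsClassFunction N (resN N T hNT ψ) := by
  intro n k
  exact hψ ⟨n, hNT n.2⟩ ⟨k, hNT k.2⟩

omit [Fintype G] [Fintype N] [Fintype T] hN in
theorem resN_isCharacter {ψ : T → ℂ} (hψ : IsCharacter T ψ) :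
    IsCharacter N (resN N T hNT ψ) :=
  Helper20.isCharacter_comp (Subgroup.inclusion hNT) hψ

open scoped Classical in
omit hN in
theorem sum_bT_mul [Fintype (IrrCharacter N)] (b : Set (IrrCharacter N)) (ξ : T → ℂ)
    (hξ : IsClassFunction T ξ) :
    ∑ t : T, bT N T b t * ξ t = ∑ φ : IrrCharacter N,
      classInner (resN N T hNT ξ) (φ : N → ℂ) *
        ((if φ ∈ b then (1 : ℂ) else 0) * (φ : N → ℂ) 1) := by
  have h1 : ∑ t : T, bT N T b t * ξ t = ∑ g : G, extendByZero T ξ g * bG N b g := by
    rw [Helper46.sum_extendByZero_mul T ξ (bG N b)]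
    exact Finset.sum_congr rfl fun t _ => mul_comm _ _
  have h2 : ∑ g : G, extendByZero T ξ g * bG N b g =
      ∑ n : N, blockCoeff b n * resN N T hNT ξ n := by
    have h3 : ∑ g : G, extendByZero T ξ g * bG N b g =
        ∑ g : G, extendByZero N (blockCoeff b) g * extendByZero T ξ g :=
      Finset.sum_congr rfl fun g _ => mul_comm _ _
    rw [h3, Helper46.sum_extendByZero_mul N (blockCoeff b) (extendByZero T ξ)]
    refine Finset.sum_congr rfl fun n _ => ?_
    rw [Helper46.extendByZero_of_mem T ξ (hNT n.2)]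
    rfl
  rw [h1, h2, sum_mul_expansion _ _ (resN_isClassFunction N T hNT hξ)]
  refine Finset.sum_congr rfl fun φ _ => ?_
  rw [omega_blockCoeff]

omit hN in
theorem omega_bT_of_not_over (b : Set (IrrCharacter N)) (ξ : IrrCharacter T)
    (h : ¬ OverB N T hNT b (ξ : T → ℂ)) : omega (ξ : T → ℂ) (bT N T b) = 0 := by
  classical
  have := irr_finite (G := N)
  let _ := Fintype.ofFinite (IrrCharacter N)
  rw [omega_def, sum_bT_mul N T hNT b _ (isClassFunction_irr ξ), Finset.sum_eq_zero, zero_div]
  intro φ _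
  by_cases hφ : φ ∈ b
  · have h0 : classInner (resN N T hNT (ξ : T → ℂ)) (φ : N → ℂ) = 0 := by
      by_contra h0
      exact h ⟨φ, hφ, h0⟩
    rw [h0, zero_mul]
  · rw [if_neg hφ, zero_mul, mul_zero]

theorem omega_bT_of_over {b : Set (IrrCharacter N)} (hst : IsStab N T b) (ξ : IrrCharacter T)
    (h : OverB N T hNT b (ξ : T → ℂ)) : omega (ξ : T → ℂ) (bT N T b) = 1 := by
  classical
  have := irr_finite (G := N)
  let _ := Fintype.ofFinite (IrrCharacter N)
  have hcf := bT_isClassFunction N T hst
  have hidem : omega (ξ : T → ℂ) (bT N T b) * omega (ξ : T → ℂ) (bT N T b) =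
      omega (ξ : T → ℂ) (bT N T b) := by
    rw [← omega_conv ξ _ _ hcf hcf, conv_bT N T hNT b]
  have hne : omega (ξ : T → ℂ) (bT N T b) ≠ 0 := by
    rw [omega_def, sum_bT_mul N T hNT b _ (isClassFunction_irr ξ)]
    apply div_ne_zero _ (Helper4.irr_one_ne_zero ξ)
    have hk : ∀ φ : IrrCharacter N, ∃ k : ℕ,
        classInner (resN N T hNT (ξ : T → ℂ)) (φ : N → ℂ) = k :=
      fun φ => Helper35.classInner_char_nat
        (resN_isCharacter N T hNT (isCharacter_of_irr ξ)) (isCharacter_of_irr φ)
    choose k hk using hk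
    obtain ⟨θ, hθ, hθne⟩ := h
    have hsum : ∑ φ : IrrCharacter N, classInner (resN N T hNT (ξ : T → ℂ)) (φ : N → ℂ) *
        ((if φ ∈ b then (1 : ℂ) else 0) * (φ : N → ℂ) 1) =
        ((∑ φ : IrrCharacter N, k φ * ((if φ ∈ b then 1 else 0) *
          charDegree (φ : N → ℂ)) : ℕ) : ℂ) := by
      push_cast
      refine Finset.sum_congr rfl fun φ _ => ?_
      rw [hk φ, (Helper83.irr_degree φ.2).2]
    rw [hsum]
    have hpos : 0 < ∑ φ : IrrCharacter N, k φ * ((if φ ∈ b then 1 else 0) *
        charDegree (φ : N → ℂ)) := by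
      refine Finset.sum_pos' (fun _ _ => Nat.zero_le _) ⟨θ, Finset.mem_univ _, ?_⟩
      have hkθ : k θ ≠ 0 := by
        intro h0
        apply hθne
        rw [hk θ, h0]
        simp
      rw [if_pos hθ, one_mul]
      exact Nat.mul_pos (Nat.pos_of_ne_zero hkθ) (Helper83.irr_degree θ.2).1
    exact_mod_cast hpos.ne'
  have h3 : omega (ξ : T → ℂ) (bT N T b) * omega (ξ : T → ℂ) (bT N T b) =
      1 * omega (ξ : T → ℂ) (bT N T b) := by rw [hidem, one_mul]
  exact mul_right_cancel₀ hne h3

omit [Fintype N] hN in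
/-- The central character of an induced function on a class function of `G`. -/
theorem omega_ind (ψ : T → ℂ) (Z : G → ℂ) (hZ : IsClassFunction G Z) :
    omega (indFun T ψ) Z = omega ψ (fun u : T => Z u) := by
  rw [omega_def, omega_def, Helper35.indFun_one_eq]
  have hcf : IsClassFunction G (fun g => conj (Z g)) := by
    intro g h
    simp only
    rw [hZ g h]
  have h1 := Helper35.frobenius_reciprocity T ψ (fun g => conj (Z g)) hcf
  unfold classInner at h1
  simp only [Helper35.res_apply, Complex.conj_conj] at h1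
  have hG : (Nat.card G : ℂ) ≠ 0 := by exact_mod_cast (Nat.card_pos (α := G)).ne'
  have hT : (Nat.card T : ℂ) ≠ 0 := by exact_mod_cast (Nat.card_pos (α := T)).ne'
  have hidx : (Nat.card G : ℂ) = (Nat.card T : ℂ) * (T.index : ℂ) := by
    rw [← Subgroup.card_mul_index T]
    push_cast
    ring
  have hidx0 : (T.index : ℂ) ≠ 0 := by
    intro h0
    rw [h0, mul_zero] at hidx
    exact hG hidx
  have e1 : ∑ g, Z g * indFun T ψ g = ∑ g, indFun T ψ g * Z g :=
    Finset.sum_congr rfl fun _ _ => mul_comm _ _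
  have e2 : ∑ u : T, Z u * ψ u = ∑ u : T, ψ u * Z u :=
    Finset.sum_congr rfl fun _ _ => mul_comm _ _
  have h2 : ∑ g, indFun T ψ g * Z g = (T.index : ℂ) * ∑ u : T, ψ u * Z u := by
    have h3 : ∑ g, indFun T ψ g * Z g =
        (Nat.card G : ℂ) * ((Nat.card T : ℂ)⁻¹ * ∑ u : T, ψ u * Z u) := by
      rw [← h1, ← mul_assoc, mul_inv_cancel₀ hG, one_mul]
    rw [h3, hidx]
    field_simp
  rw [e1, e2, h2, mul_div_mul_left _ _ hidx0]

omit [Fintype N] [Fintype T] hN in
theorem indFun_starFun (θ : T → ℂ) :
    indFun T (fun t => conj (θ t)) = fun g => conj (indFun T θ g) := by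
  funext g
  unfold indFun
  rw [map_mul, map_inv₀, map_natCast, map_sum]
  congr 1
  refine Finset.sum_congr rfl fun x _ => ?_
  by_cases hx : x⁻¹ * g * x ∈ T
  · rw [Helper46.extendByZero_of_mem T _ hx, Helper46.extendByZero_of_mem T _ hx]
  · rw [Helper46.extendByZero_of_not_mem T _ hx, Helper46.extendByZero_of_not_mem T _ hx,
      map_zero]

/-- Induction is an isometry on the irreducible characters of `T` lying over `b`. -/
theorem classInner_ind_ind {b : Set (IrrCharacter N)} (hst : IsStab N T b)
    (ψ₁ ψ₂ : IrrCharacter T) (h₁ : OverB N T hNT b (ψ₁ : T → ℂ))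
    (h₂ : OverB N T hNT b (ψ₂ : T → ℂ)) :
    classInner (indFun T (ψ₁ : T → ℂ)) (indFun T (ψ₂ : T → ℂ)) =
      classInner (ψ₁ : T → ℂ) (ψ₂ : T → ℂ) := by
  have hcf2 : IsClassFunction G (indFun T (ψ₂ : T → ℂ)) := Helper35.isClassFunction_indFun T _
  rw [Helper35.frobenius_reciprocity T _ _ hcf2]
  have hψc : IsClassFunction T (fun u => conj ((ψ₂ : T → ℂ) u)) := by
    intro g h
    simp only
    rw [isClassFunction_irr ψ₂ g h]
  have hstar := star_bT N T hNT hst (fun u => conj ((ψ₂ : T → ℂ) u)) hψc
  rw [conv_conj_irr _ (bT_isClassFunction N T hst) ψ₂, omega_bT_of_over N T hNT hst ψ₂ h₂,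
    one_smul, indFun_starFun] at hstar
  have hRc : IsClassFunction T (fun u : T => conj (indFun T (ψ₂ : T → ℂ) (u : G))) := by
    intro u t
    simp only
    congr 1
    exact hcf2 u t
  have h3 := congrArg (omega (ψ₁ : T → ℂ)) hstar
  rw [omega_conv ψ₁ _ _ (bT_isClassFunction N T hst) hRc, omega_bT_of_over N T hNT hst ψ₁ h₁,
    one_mul, omega_conj_eq, omega_conj_eq] at h3
  have hT : (Nat.card T : ℂ) ≠ 0 := by exact_mod_cast (Nat.card_pos (α := T)).ne'
  have h1 := Helper4.irr_one_ne_zero ψ₁
  have h4 := (div_left_inj' h1).mp h3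
  exact mul_left_cancel₀ hT h4

/-- Clifford correspondence: an irreducible character of `T` over `b` induces irreducibly. -/
theorem ind_irr {b : Set (IrrCharacter N)} (hst : IsStab N T b) (ψ : IrrCharacter T)
    (h : OverB N T hNT b (ψ : T → ℂ)) : IsIrrCharacter G (indFun T (ψ : T → ℂ)) := by
  classical
  have := irr_finite (G := G)
  let _ : Fintype (IrrCharacter G) := Fintype.ofFinite _
  apply Helper4.isIrrCharacter_of_norm_one _
    (Helper35.isCharacter_indFun T (isCharacter_of_irr ψ))
  rw [classInner_ind_ind N T hNT hst ψ ψ h h, classInner_irr, if_pos rfl]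

omit [Fintype G] hN in
theorem classInner_res_expansion [Fintype (IrrCharacter T)] (χ : G → ℂ)
    (hχ : IsClassFunction G χ) (θ : N → ℂ) :
    classInner (fun n : N => χ n) θ = ∑ ξ : IrrCharacter T,
      classInner (fun t : T => χ t) (ξ : T → ℂ) * classInner (resN N T hNT (ξ : T → ℂ)) θ := by
  have hR : IsClassFunction T (fun t : T => χ t) := fun u t => hχ u t
  have h1 := classFunction_expansion (fun t : T => χ t) hR
  have h2 : (fun n : N => χ n) = ∑ ξ : IrrCharacter T,
      classInner (fun t : T => χ t) (ξ : T → ℂ) • resN N T hNT (ξ : T → ℂ) := by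
    funext n
    have h3 := congrFun h1 ⟨(n : G), hNT n.2⟩
    simp only [Finset.sum_apply, Pi.smul_apply, smul_eq_mul] at h3 ⊢
    exact h3
  conv_lhs => rw [h2]
  rw [Helper35.classInner_sum_left]
  refine Finset.sum_congr rfl fun ξ _ => ?_
  rw [Helper35.classInner_smul_left]

/-- Every irreducible character of `G` over a member of `b` is induced from `T`. -/
theorem exists_ind_eq {b : Set (IrrCharacter N)} (hst : IsStab N T b) (χ : IrrCharacter G)
    (θ : IrrCharacter N) (hθ : θ ∈ b)
    (hne : classInner (fun n : N => (χ : G → ℂ) n) (θ : N → ℂ) ≠ 0) :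
    ∃ ξ : IrrCharacter T, classInner (resN N T hNT (ξ : T → ℂ)) (θ : N → ℂ) ≠ 0 ∧
      (χ : G → ℂ) = indFun T (ξ : T → ℂ) := by
  classical
  have := irr_finite (G := T)
  let _ := Fintype.ofFinite (IrrCharacter T)
  rw [classInner_res_expansion N T hNT _ (isClassFunction_irr χ)] at hne
  obtain ⟨ξ, -, hξ⟩ := Finset.exists_ne_zero_of_sum_ne_zero hne
  have h1 : classInner (fun t : T => (χ : G → ℂ) t) (ξ : T → ℂ) ≠ 0 := left_ne_zero_of_mul hξ
  have h2 : classInner (resN N T hNT (ξ : T → ℂ)) (θ : N → ℂ) ≠ 0 := right_ne_zero_of_mul hξ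
  refine ⟨ξ, h2, ?_⟩
  have hirr := ind_irr N T hNT hst ξ ⟨θ, hθ, h2⟩
  have h3 : classInner (indFun T (ξ : T → ℂ)) (χ : G → ℂ) ≠ 0 := by
    rw [Helper35.frobenius_reciprocity T _ _ (isClassFunction_irr χ), classInner_conj_symm]
    intro h0
    apply h1
    have h5 := congrArg conj h0
    rw [Complex.conj_conj, map_zero] at h5
    exact h5
  have h4 := Helper35.classInner_irr' hirr χ.2
  by_contra hcon
  rw [if_neg (fun h => hcon h.symm)] at h4
  exact h3 h4

omit [Fintype G] hN in
theorem classInner_resG_ne_zero (χ : IrrCharacter G) (ψ : IrrCharacter T) (θ : IrrCharacter N)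
    (h1 : classInner (fun t : T => (χ : G → ℂ) t) (ψ : T → ℂ) ≠ 0)
    (h2 : classInner (resN N T hNT (ψ : T → ℂ)) (θ : N → ℂ) ≠ 0) :
    classInner (fun n : N => (χ : G → ℂ) n) (θ : N → ℂ) ≠ 0 := by
  classical
  have := irr_finite (G := T)
  let _ := Fintype.ofFinite (IrrCharacter T)
  rw [classInner_res_expansion N T hNT _ (isClassFunction_irr χ)]
  have hm : ∀ ξ : IrrCharacter T, ∃ m : ℕ,
      classInner (fun t : T => (χ : G → ℂ) t) (ξ : T → ℂ) = m :=
    fun ξ => Helper35.classInner_char_nat
      (Helper35.isCharacter_res T (isCharacter_of_irr χ)) (isCharacter_of_irr ξ)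
  have he : ∀ ξ : IrrCharacter T, ∃ e : ℕ,
      classInner (resN N T hNT (ξ : T → ℂ)) (θ : N → ℂ) = e :=
    fun ξ => Helper35.classInner_char_nat
      (resN_isCharacter N T hNT (isCharacter_of_irr ξ)) (isCharacter_of_irr θ)
  choose m hm using hm
  choose e he using he
  have hsum : ∑ ξ : IrrCharacter T, classInner (fun t : T => (χ : G → ℂ) t) (ξ : T → ℂ) *
      classInner (resN N T hNT (ξ : T → ℂ)) (θ : N → ℂ) =
      ((∑ ξ : IrrCharacter T, m ξ * e ξ : ℕ) : ℂ) := by
    push_cast
    exact Finset.sum_congr rfl fun ξ _ => by rw [hm ξ, he ξ]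
  rw [hsum]
  have hpos : 0 < ∑ ξ : IrrCharacter T, m ξ * e ξ := by
    refine Finset.sum_pos' (fun _ _ => Nat.zero_le _) ⟨ψ, Finset.mem_univ _, ?_⟩
    apply Nat.mul_pos
    · apply Nat.pos_of_ne_zero
      intro h0
      apply h1
      rw [hm ψ, h0]
      simp
    · apply Nat.pos_of_ne_zero
      intro h0
      apply h2
      rw [he ψ, h0]
      simp
  exact_mod_cast hpos.ne'

/-- The central character of `ψ` (over `b`) on a class function `c` of `T` is the central
character of the induced character on a class function of `G` depending only on `c`. -/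
theorem omega_ind_ind {b : Set (IrrCharacter N)} (hst : IsStab N T b) (ψ : IrrCharacter T)
    (h : OverB N T hNT b (ψ : T → ℂ)) (c : T → ℂ) (hc : IsClassFunction T c) :
    omega (indFun T (ψ : T → ℂ)) (indFun T (conv (bT N T b) c)) = omega (ψ : T → ℂ) c := by
  have hb := bT_isClassFunction N T hst
  have hZ : IsClassFunction G (indFun T (conv (bT N T b) c)) :=
    Helper35.isClassFunction_indFun T _
  have hZT : IsClassFunction T (fun u : T => indFun T (conv (bT N T b) c) (u : G)) :=
    fun u t => hZ u t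
  rw [omega_ind T _ _ hZ]
  have h1 : omega (ψ : T → ℂ) (fun u : T => indFun T (conv (bT N T b) c) (u : G)) =
      omega (ψ : T → ℂ)
        (conv (bT N T b) (fun u : T => indFun T (conv (bT N T b) c) (u : G))) := by
    rw [omega_conv ψ _ _ hb hZT, omega_bT_of_over N T hNT hst ψ h, one_mul]
  rw [h1, star_bT N T hNT hst c hc, omega_conv ψ _ _ hb hc, omega_bT_of_over N T hNT hst ψ h,
    one_mul]

omit [Fintype N] hN in
/-- A function induced from a class function with local-integer values has local-integer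
values. -/
theorem indFun_locRing {p : ℕ} {M : Ideal AlgInt} (hM : IsPModular p M) (z : T → ℂ)
    (hz : IsClassFunction T z) (hl : ∀ t, MemLocalRing M (z t)) (g : G) :
    MemLocalRing M (indFun T z g) := by
  classical
  letI : Fintype (G ⧸ T) := Fintype.ofFinite _
  have hbij : Function.Bijective
      (fun q : (G ⧸ T) × T => (Quotient.out q.1 : G) * (q.2 : G)) := by
    constructor
    · rintro ⟨q, h⟩ ⟨q', h'⟩ heq
      simp only at heq
      have hq : q = q' := by
        have h1 : (QuotientGroup.mk (Quotient.out q * (h : G)) : G ⧸ T) =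
            QuotientGroup.mk (Quotient.out q' * (h' : G)) := by rw [heq]
        rw [QuotientGroup.mk_mul_of_mem _ h.2, QuotientGroup.mk_mul_of_mem _ h'.2,
          QuotientGroup.out_eq', QuotientGroup.out_eq'] at h1
        exact h1
      subst hq
      have h2 : (h : G) = h' := mul_left_cancel heq
      exact Prod.ext rfl (Subtype.ext h2)
    · intro g
      obtain ⟨h, hh⟩ := QuotientGroup.mk_out_eq_mul T g
      refine ⟨(QuotientGroup.mk g, h⁻¹), ?_⟩
      simp only [hh]
      simp
  rw [Helper46.indFun_eq_sum_transversal T z hz (fun q : G ⧸ T => (Quotient.out q : G)) hbij g]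
  refine locRing_sum hM _ _ fun q _ => ?_
  by_cases hx : (Quotient.out q)⁻¹ * g * Quotient.out q ∈ T
  · rw [Helper46.extendByZero_of_mem T _ hx]
    exact hl _
  · rw [Helper46.extendByZero_of_not_mem T _ hx]
    exact locRing_zero hM

/-- `ψ` (over `b`) is a constituent of the restriction of the induced character. -/
theorem classInner_res_ind_ne_zero {b : Set (IrrCharacter N)} (hst : IsStab N T b)
    (ψ : IrrCharacter T) (h : OverB N T hNT b (ψ : T → ℂ)) :
    classInner (fun t : T => indFun T (ψ : T → ℂ) (t : G)) (ψ : T → ℂ) ≠ 0 := by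
  have h1 : classInner (indFun T (ψ : T → ℂ)) (indFun T (ψ : T → ℂ)) = 1 := by
    rw [classInner_ind_ind N T hNT hst ψ ψ h h, classInner_irr, if_pos rfl]
  rw [Helper35.frobenius_reciprocity T _ _ (Helper35.isClassFunction_indFun T _)] at h1
  rw [classInner_conj_symm]
  have h2 : classInner (ψ : T → ℂ) (fun t : T => indFun T (ψ : T → ℂ) (t : G)) = 1 := h1
  rw [h2]
  simp

omit [Fintype G] hN in
theorem exists_constituent_resN (χ : IrrCharacter G) :
    ∃ μ : IrrCharacter N, classInner (fun n : N => (χ : G → ℂ) n) (μ : N → ℂ) ≠ 0 := by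
  classical
  have := irr_finite (G := N)
  let _ := Fintype.ofFinite (IrrCharacter N)
  by_contra hcon
  push Not at hcon
  have hcf : IsClassFunction N (fun n : N => (χ : G → ℂ) n) :=
    fun n k => isClassFunction_irr χ n k
  have h2 := congrFun (classFunction_expansion (fun n : N => (χ : G → ℂ) n) hcf) 1
  simp only [Finset.sum_apply, Pi.smul_apply, smul_eq_mul, hcon, zero_mul,
    Finset.sum_const_zero, OneMemClass.coe_one] at h2
  exact Helper4.irr_one_ne_zero χ h2

omit [Fintype G] [Fintype T] hN in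
theorem bT_locRing {p : ℕ} {M : Ideal AlgInt} (hM : IsPModular p M) (b : Set (IrrCharacter N))
    (hb : IsPBlock M b) (t : T) : MemLocalRing M (bT N T b t) := by
  show MemLocalRing M (extendByZero N (blockCoeff b) (t : G))
  by_cases ht : (t : G) ∈ N
  · rw [Helper46.extendByZero_of_mem N _ ht]
    exact osima hM b hb _
  · rw [Helper46.extendByZero_of_not_mem N _ ht]
    exact locRing_zero hM

end CharLevel

end Cfsg.Agent.Lib.Helper33
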