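import Mathlib
import Cfsg.Agent.Lib.Helper33.FRChar
import Cfsg.Agent.Lib.Helper21.MinMax

/-!
# The group algebra graded by a quotient group, in the convolution calculus (helper33)

`N` is a normal subgroup of `G`.  A function on `G` is cut into its parts on the cosets of `N`
(`trunc`).  The main result `graded_unit` is a nilpotency statement: if `i = e_b * a` is an
idempotent (`e_b` the idempotent of a set `b` of irreducible characters of `N` with local
coefficients, `a` a local `N`-invariant function), and for every coset `w` and every local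
`N`-invariant `u` supported on `w⁻¹` the central characters of the members of `b` take values in
the local ideal on the coset-`1` element `i_w * u`, then `i = 0`.
-/

set_option autoImplicit false

namespace Cfsg.Agent.Lib.Helper33

open Cfsg Cfsg.Agent.Lib.Helper4 Cfsg.Agent.Lib.Helper21 Cfsg.Agent.Lib.Helper22
  Cfsg.Agent.Lib.Helper20
open scoped ComplexConjugate

section ConvLin

variable {G : Type*} [Group G] [Fintype G]

theorem conv_add_right (a b c : G → ℂ) : conv a (b + c) = conv a b + conv a c := by
  funext g
  simp only [conv_apply, Pi.add_apply, mul_add, Finset.sum_add_distrib]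

theorem conv_add_left (a b c : G → ℂ) : conv (a + b) c = conv a c + conv b c := by
  funext g
  simp only [conv_apply, Pi.add_apply, add_mul, Finset.sum_add_distrib]

theorem conv_zero_right (a : G → ℂ) : conv a 0 = 0 := by
  funext g
  simp [conv_apply]

theorem conv_zero_left (a : G → ℂ) : conv 0 a = 0 := by
  funext g
  simp [conv_apply]

theorem conv_sum_right {ι : Type*} (s : Finset ι) (a : G → ℂ) (f : ι → G → ℂ) :
    conv a (∑ i ∈ s, f i) = ∑ i ∈ s, conv a (f i) := by
  classical
  induction s using Finset.induction_on with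
  | empty => simp [conv_zero_right]
  | insert j s hj ih => rw [Finset.sum_insert hj, Finset.sum_insert hj, conv_add_right, ih]

theorem conv_sum_left {ι : Type*} (s : Finset ι) (f : ι → G → ℂ) (a : G → ℂ) :
    conv (∑ i ∈ s, f i) a = ∑ i ∈ s, conv (f i) a := by
  classical
  induction s using Finset.induction_on with
  | empty => simp [conv_zero_left]
  | insert j s hj ih => rw [Finset.sum_insert hj, Finset.sum_insert hj, conv_add_left, ih]

theorem classInd_one_conv (y : G → ℂ) : conv (classInd (1 : G)) y = y := by
  rw [conv_comm_of_isClassFunction _ _ (classInd_isClassFunction 1), conv_classInd_one]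

theorem cpow_of_idem (i : G → ℂ) (h : conv i i = i) (n : ℕ) : cpow i (n + 1) = i := by
  induction n with
  | zero => rw [cpow_succ, cpow_zero, conv_classInd_one]
  | succ n ih => rw [cpow_succ, ih, h]

omit [Fintype G] in
theorem lmat_zero : lmat (0 : G → ℂ) = 0 := by
  ext g k
  simp [lmat_apply]

/-- An idempotent of the group algebra with all coefficients in the local ideal is zero. -/
theorem idem_eq_zero_of_locIdeal {p : ℕ} {M : Ideal AlgInt} (hM : IsPModular p M) (i : G → ℂ)
    (h : conv i i = i) (hI : ∀ g, MemLocalIdeal M (i g)) : i = 0 := by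
  classical
  have h1 : lmat i * lmat i = lmat i := by rw [← lmat_conv, h]
  have hdet : (1 + -lmat i).det ≠ 0 :=
    det_one_add_ne_zero hM _ (fun g k => by
      rw [Matrix.neg_apply, lmat_apply]
      exact locIdeal_neg (hI _))
  have hu : IsUnit (1 + -lmat i) := (Matrix.isUnit_iff_isUnit_det _).mpr hdet.isUnit
  have h2 : lmat i * (1 + -lmat i) = 0 := by
    rw [mul_add, mul_one, mul_neg, h1, add_neg_cancel]
  have h3 : lmat i = 0 := (IsUnit.mul_left_eq_zero hu).mp h2
  apply lmat_injective
  rw [h3, lmat_zero]

/-- Brauer's argument for functions invariant under a `p`-subgroup `R`: the value at an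
element `g` centralized by `R` of a product of two local `R`-invariant functions lies in the
local ideal as soon as the terms of the product at the elements centralized by `R` do. -/
theorem conv_locIdeal_of_pgroup_inv {p : ℕ} {M : Ideal AlgInt} (hM : IsPModular p M)
    (x y : G → ℂ) (hlx : ∀ g, MemLocalRing M (x g)) (hly : ∀ g, MemLocalRing M (y g)) (g : G)
    (R : Subgroup G) (hR : IsPGroup p R) (hRg : g ∈ Subgroup.centralizer (R : Set G))
    (hx : ∀ r ∈ R, ∀ h, x (r * h * r⁻¹) = x h) (hy : ∀ r ∈ R, ∀ h, y (r * h * r⁻¹) = y h)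
    (hfix : ∀ h, h ∈ Subgroup.centralizer (R : Set G) → MemLocalIdeal M (x h * y (h⁻¹ * g))) :
    MemLocalIdeal M (conv x y g) := by
  rw [conv_apply]
  let _ : MulAction R G := MulAction.compHom G ((MulAut.conj : G →* MulAut G).comp R.subtype)
  have hsmul : ∀ (r : R) (u : G), r • u = (r : G) * u * (r : G)⁻¹ := fun r u => rfl
  refine sum_locIdeal_of_pgroup_action hM hR (fun h => x h * y (h⁻¹ * g)) ?_
    (fun u => locRing_mul hM (hlx u) (hly _)) ?_
  · intro r u
    have hrg : (r : G) * g = g * (r : G) := Subgroup.mem_centralizer_iff.mp hRg r r.2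
    have h1 : ((r : G) * u * (r : G)⁻¹)⁻¹ * g = (r : G) * (u⁻¹ * g) * (r : G)⁻¹ := by
      calc ((r : G) * u * (r : G)⁻¹)⁻¹ * g
          = (r : G) * u⁻¹ * ((r : G)⁻¹ * (g * (r : G))) * (r : G)⁻¹ := by group
        _ = (r : G) * (u⁻¹ * g) * (r : G)⁻¹ := by rw [← hrg]; group
    show x (r • u) * y ((r • u)⁻¹ * g) = x u * y (u⁻¹ * g)
    rw [hsmul, h1, hx r r.2, hy r r.2]
  · intro u hu
    apply hfix
    rw [Subgroup.mem_centralizer_iff]
    intro r hr
    have h2 := hu ⟨r, hr⟩
    rw [hsmul] at h2
    have h3 : r * u * r⁻¹ = u := h2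
    calc r * u = r * u * r⁻¹ * r := by group
      _ = u * r := by rw [h3]

end ConvLin

section Graded

variable {G : Type*} [Group G] [Fintype G] (N : Subgroup G) [hN : N.Normal]

/-- `y` is invariant under conjugation by the elements of `N`. -/
def NInv (y : G → ℂ) : Prop := ∀ n ∈ N, ∀ g, y (n * g * n⁻¹) = y g

/-- `y` vanishes off the coset `w` of `N`. -/
def SuppOn (w : G ⧸ N) (y : G → ℂ) : Prop :=
  ∀ g, (QuotientGroup.mk g : G ⧸ N) ≠ w → y g = 0

open scoped Classical in
/-- The part of `y` on the coset `w` of `N`. -/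
noncomputable def trunc (w : G ⧸ N) (y : G → ℂ) : G → ℂ :=
  fun g => if (QuotientGroup.mk g : G ⧸ N) = w then y g else 0

/-- Restriction of a function on `G` to `N`. -/
def resF (y : G → ℂ) : N → ℂ := fun n => y n

omit [Fintype G] hN in
theorem resF_apply (y : G → ℂ) (n : N) : resF N y n = y n := rfl

omit hN in
theorem nInv_conv {x y : G → ℂ} (hx : NInv N x) (hy : NInv N y) : NInv N (conv x y) := by
  intro n hn g
  rw [conv_apply, conv_apply]
  refine (Fintype.sum_equiv (MulAut.conj n).toEquiv _ _ (fun k => ?_)).symm
  simp only [MulEquiv.toEquiv_eq_coe, EquivLike.coe_coe, MulAut.conj_apply]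
  rw [hx n hn k]
  congr 1
  rw [← hy n hn (k⁻¹ * g)]
  congr 1
  group

theorem suppOn_conv {w v : G ⧸ N} {x y : G → ℂ} (hx : SuppOn N w x) (hy : SuppOn N v y) :
    SuppOn N (w * v) (conv x y) := by
  intro g hg
  rw [conv_apply]
  refine Finset.sum_eq_zero fun h _ => ?_
  by_cases hh : (QuotientGroup.mk h : G ⧸ N) = w
  · have h2 : (QuotientGroup.mk (h⁻¹ * g) : G ⧸ N) ≠ v := by
      intro h3
      apply hg
      have h4 : (QuotientGroup.mk g : G ⧸ N) =
          (QuotientGroup.mk h : G ⧸ N) * (QuotientGroup.mk (h⁻¹ * g) : G ⧸ N) := by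
        rw [← QuotientGroup.mk_mul, mul_inv_cancel_left]
      rw [h4, hh, h3]
    rw [hy _ h2, mul_zero]
  · rw [hx _ hh, zero_mul]

omit [Fintype G] in
theorem mk_conj_of_mem {n : G} (hn : n ∈ N) (g : G) :
    (QuotientGroup.mk (n * g * n⁻¹) : G ⧸ N) = QuotientGroup.mk g := by
  have h1 : (QuotientGroup.mk n : G ⧸ N) = 1 := (QuotientGroup.eq_one_iff n).mpr hn
  rw [QuotientGroup.mk_mul, QuotientGroup.mk_mul, QuotientGroup.mk_inv, h1]
  simp

omit [Fintype G] in
theorem mk_inv_mul_of_mem {n : G} (hn : n ∈ N) (g : G) :
    (QuotientGroup.mk (n⁻¹ * g) : G ⧸ N) = QuotientGroup.mk g := by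
  have h1 : (QuotientGroup.mk n : G ⧸ N) = 1 := (QuotientGroup.eq_one_iff n).mpr hn
  rw [QuotientGroup.mk_mul, QuotientGroup.mk_inv, h1]
  simp

omit [Fintype G] in
theorem trunc_nInv (w : G ⧸ N) {y : G → ℂ} (hy : NInv N y) : NInv N (trunc N w y) := by
  intro n hn g
  unfold trunc
  rw [mk_conj_of_mem N hn g, hy n hn g]

omit [Fintype G] hN in
theorem trunc_suppOn (w : G ⧸ N) (y : G → ℂ) : SuppOn N w (trunc N w y) := by
  intro g hg
  unfold trunc
  rw [if_neg hg]

omit [Fintype G] hN in
theorem trunc_loc {p : ℕ} {M : Ideal AlgInt} (hM : IsPModular p M) (w : G ⧸ N) {y : G → ℂ}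
    (hy : ∀ g, MemLocalRing M (y g)) (g : G) : MemLocalRing M (trunc N w y g) := by
  unfold trunc
  split_ifs
  · exact hy g
  · exact locRing_zero hM

omit [Fintype G] hN in
theorem trunc_zero (w : G ⧸ N) : trunc N w (0 : G → ℂ) = 0 := by
  funext g
  unfold trunc
  simp

omit [Fintype G] hN in
theorem sum_trunc [Fintype (G ⧸ N)] (y : G → ℂ) : ∑ w : G ⧸ N, trunc N w y = y := by
  classical
  funext g
  rw [Finset.sum_apply]
  unfold trunc
  rw [Finset.sum_ite_eq]
  simp

/-- Cutting to a coset commutes with multiplication by an element of the group algebra of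
`N`. -/
theorem conv_ext_trunc [Fintype N] (f : N → ℂ) (y : G → ℂ) (w : G ⧸ N) :
    conv (extendByZero N f) (trunc N w y) = trunc N w (conv (extendByZero N f) y) := by
  classical
  funext g
  rw [conv_ext_apply]
  unfold trunc
  by_cases hg : (QuotientGroup.mk g : G ⧸ N) = w
  · rw [if_pos hg, conv_ext_apply]
    refine Finset.sum_congr rfl fun t _ => ?_
    rw [mk_inv_mul_of_mem N t.2 g, if_pos hg]
  · rw [if_neg hg]
    refine Finset.sum_eq_zero fun t _ => ?_
    rw [mk_inv_mul_of_mem N t.2 g, if_neg hg, mul_zero]

omit hN in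
/-- The elements of the group algebra of `N` commute with the `N`-invariant functions. -/
theorem conv_ext_comm [Fintype N] (f : N → ℂ) {y : G → ℂ} (hy : NInv N y) :
    conv (extendByZero N f) y = conv y (extendByZero N f) := by
  funext g
  rw [conv_ext_apply, conv_apply, ← Equiv.sum_comp ((Equiv.inv G).trans (Equiv.mulLeft g))]
  have h1 : ∀ k : G, y (((Equiv.inv G).trans (Equiv.mulLeft g)) k) *
      extendByZero N f ((((Equiv.inv G).trans (Equiv.mulLeft g)) k)⁻¹ * g) =
      extendByZero N f k * y (g * k⁻¹) := by
    intro k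
    simp only [Equiv.trans_apply, Equiv.inv_apply, Equiv.coe_mulLeft]
    have : (g * k⁻¹)⁻¹ * g = k := by group
    rw [this, mul_comm]
  rw [Finset.sum_congr rfl (fun k _ => h1 k),
    Helper46.sum_extendByZero_mul N f (fun k => y (g * k⁻¹))]
  refine Finset.sum_congr rfl fun t _ => ?_
  congr 1
  have h2 := hy (t : G)⁻¹ (N.inv_mem t.2) (g * (t : G)⁻¹)
  rw [← h2]
  congr 1
  group

omit [Fintype G] in
theorem ext_resF {y : G → ℂ} (hy : SuppOn N 1 y) : extendByZero N (resF N y) = y := by
  funext g
  by_cases hg : g ∈ N
  · rw [Helper46.extendByZero_of_mem N _ hg]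
    rfl
  · rw [Helper46.extendByZero_of_not_mem N _ hg]
    symm
    apply hy
    intro h
    exact hg ((QuotientGroup.eq_one_iff g).mp h)

omit [Fintype G] hN in
theorem resF_ext (f : N → ℂ) : resF N (extendByZero N f) = f := by
  funext n
  rw [resF_apply, Helper46.extendByZero_coe]

omit [Fintype G] hN in
theorem resF_isClassFunction {y : G → ℂ} (hy : NInv N y) : IsClassFunction N (resF N y) := by
  intro n k
  have := hy k k.2 n
  simpa [resF] using this

omit hN in
theorem resF_conv_ext [Fintype N] (f f' : N → ℂ) :
    resF N (conv (extendByZero N f) (extendByZero N f')) = conv f f' := by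
  rw [← ext_conv, resF_ext]

omit [Fintype G] in
theorem ext_suppOn (f : N → ℂ) : SuppOn N 1 (extendByZero N f) := by
  intro g hg
  apply Helper46.extendByZero_of_not_mem
  intro h
  exact hg ((QuotientGroup.eq_one_iff g).mpr h)

omit [Fintype G] hN in
theorem ext_nInv {f : N → ℂ} (hf : IsClassFunction N f) : NInv N (extendByZero N f) :=
  fun n hn g => ext_classFunction_conj N f hf n hn g

omit hN in
theorem ext_classInd_one [Fintype N] :
    extendByZero N (classInd (1 : N)) = classInd (1 : G) := by
  classical
  funext g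
  by_cases hg : g ∈ N
  · rw [Helper46.extendByZero_of_mem N _ hg, classInd_apply, classInd_apply]
    by_cases h1 : g = 1
    · subst h1
      rw [if_pos (by rw [isConj_one_left]; rfl), if_pos (IsConj.refl 1)]
    · rw [if_neg (by rw [isConj_one_left]; intro h; exact h1 (congrArg Subtype.val h)),
        if_neg (by rw [isConj_one_left]; exact h1)]
  · rw [Helper46.extendByZero_of_not_mem N _ hg, classInd_apply, if_neg]
    rw [isConj_one_left]
    rintro rfl
    exact hg N.one_mem

end Graded

section Pigeon

/-- A list over a finite group at least as long as the group has a nonempty segment with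
product `1`; the part after the segment misses at most `|Γ|` entries. -/
theorem exists_split {Γ : Type*} [Group Γ] [Fintype Γ] (l : List Γ)
    (hl : Fintype.card Γ ≤ l.length) :
    ∃ l₀ l₁ l₂ : List Γ, l = l₀ ++ l₁ ++ l₂ ∧ l₁ ≠ [] ∧ l₁.prod = 1 ∧
      l.length ≤ l₂.length + Fintype.card Γ := by
  classical
  obtain ⟨a, b, hab, hf⟩ := Fintype.exists_ne_map_eq_of_card_lt
    (fun k : Fin (Fintype.card Γ + 1) => (l.take k).prod) (by simp)
  wlog hlt : a < b generalizing a b
  · exact this b a hab.symm hf.symm (lt_of_le_of_ne (not_lt.mp hlt) (fun h => hab h.symm))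
  have ha : (a : ℕ) < b := hlt
  have hb : (b : ℕ) ≤ Fintype.card Γ := Nat.lt_succ_iff.mp b.2
  have hsplit : l.take b = l.take a ++ (l.drop a).take (b - a) := by
    have h1 : (b : ℕ) = a + (b - a) := by omega
    conv_lhs => rw [h1]
    rw [List.take_add]
  refine ⟨l.take a, (l.drop a).take (b - a), l.drop b, ?_, ?_, ?_, ?_⟩
  · rw [← hsplit, List.take_append_drop]
  · intro h0
    have h2 := congrArg List.length h0
    rw [List.length_take, List.length_drop, List.length_nil] at h2
    omega
  · have h3 : (l.take b).prod = (l.take a).prod := hf.symm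
    rw [hsplit, List.prod_append] at h3
    exact mul_left_cancel (h3.trans (mul_one _).symm)
  · rw [List.length_drop]
    omega

end Pigeon

section Words

variable {G : Type*} [Group G] [Fintype G] (N : Subgroup G) [hN : N.Normal]

/-- The product of the components `c w` along a word. -/
noncomputable def wprod (c : G ⧸ N → G → ℂ) : List (G ⧸ N) → (G → ℂ)
  | [] => classInd (1 : G)
  | w :: l => conv (c w) (wprod c l)

omit hN in
theorem wprod_nil (c : G ⧸ N → G → ℂ) : wprod N c [] = classInd (1 : G) := rfl

omit hN in
theorem wprod_cons (c : G ⧸ N → G → ℂ) (w : G ⧸ N) (l : List (G ⧸ N)) :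
    wprod N c (w :: l) = conv (c w) (wprod N c l) := rfl

omit hN in
theorem wprod_append (c : G ⧸ N → G → ℂ) (l₁ l₂ : List (G ⧸ N)) :
    wprod N c (l₁ ++ l₂) = conv (wprod N c l₁) (wprod N c l₂) := by
  induction l₁ with
  | nil => rw [List.nil_append, wprod_nil, classInd_one_conv]
  | cons w l ih => rw [List.cons_append, wprod_cons, wprod_cons, ih, conv_assoc]

omit hN in
theorem wprod_nInv {c : G ⧸ N → G → ℂ} (hc : ∀ w, NInv N (c w)) (l : List (G ⧸ N)) :
    NInv N (wprod N c l) := by
  induction l with
  | nil => exact fun n _ g => classInd_isClassFunction 1 g n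
  | cons w l ih => exact nInv_conv N (hc w) ih

omit hN in
theorem wprod_loc {p : ℕ} {M : Ideal AlgInt} (hM : IsPModular p M) {c : G ⧸ N → G → ℂ}
    (hc : ∀ w g, MemLocalRing M (c w g)) (l : List (G ⧸ N)) (g : G) :
    MemLocalRing M (wprod N c l g) := by
  classical
  induction l generalizing g with
  | nil =>
    rw [wprod_nil, classInd_apply]
    split_ifs
    · exact locRing_one hM
    · exact locRing_zero hM
  | cons w l ih => exact conv_locRing hM (hc w) ih g

theorem wprod_suppOn {c : G ⧸ N → G → ℂ} (hc : ∀ w, SuppOn N w (c w)) (l : List (G ⧸ N)) :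
    SuppOn N l.prod (wprod N c l) := by
  classical
  induction l with
  | nil =>
    intro g hg
    rw [wprod_nil, classInd_apply, if_neg]
    rw [isConj_one_left]
    rintro rfl
    exact hg (by simp)
  | cons w l ih =>
    rw [List.prod_cons]
    exact suppOn_conv N (hc w) ih

omit hN in
/-- If all products along words of length `n` (multiplied by `y` on the left) have
coefficients in the local ideal, so has `y * i ^ n`, where `i` is the sum of the components. -/
theorem conv_cpow_locIdeal_of_words {p : ℕ} {M : Ideal AlgInt} (hM : IsPModular p M)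
    [Fintype (G ⧸ N)] (c : G ⧸ N → G → ℂ) (i : G → ℂ) (hi : ∑ w, c w = i) (n : ℕ) :
    ∀ y : G → ℂ, (∀ l : List (G ⧸ N), l.length = n →
      ∀ g, MemLocalIdeal M (conv y (wprod N c l) g)) →
      ∀ g, MemLocalIdeal M (conv y (cpow i n) g) := by
  induction n with
  | zero =>
    intro y h g
    exact h [] rfl g
  | succ n ih =>
    intro y h g
    rw [cpow_succ, ← conv_assoc, ← hi, conv_sum_right, conv_sum_left, Finset.sum_apply]
    refine locIdeal_sum hM _ _ fun w _ => ?_
    rw [hi]
    refine ih (conv y (c w)) (fun l hl g' => ?_) g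
    rw [conv_assoc, ← wprod_cons]
    exact h (w :: l) (by rw [List.length_cons, hl]) g'

end Words

section Radical

variable {K : Type*} [Group K] [Fintype K] {p : ℕ} (M : Ideal AlgInt)

/-- The radical of the centre of the local group ring: the central elements on which all
central characters take values in the local ideal. -/
def JRad (f : K → ℂ) : Prop :=
  IsLocClass M f ∧ ∀ ξ : IrrCharacter K, MemLocalIdeal M (omega (ξ : K → ℂ) f)

/-- Products of `k` elements of the radical. -/
inductive JPow : ℕ → (K → ℂ) → Prop
  | zero : JPow 0 (classInd (1 : K))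
  | succ {k : ℕ} {f z : K → ℂ} : JRad M f → JPow k z → JPow (k + 1) (conv f z)

variable {M}

theorem jPow_exists (hM : IsPModular p M) (s : Finset (IrrCharacter K)) :
    ∀ y : K → ℂ, JPow M s.card y → ∃ z : K → ℂ, IsLocClass M z ∧
      (∀ χ ∈ s, omega (χ : K → ℂ) z = 0) ∧ ∀ g, MemLocalIdeal M (z g - y g) := by
  classical
  induction s using Finset.induction_on with
  | empty =>
    intro y hy
    rw [Finset.card_empty] at hy
    cases hy
    refine ⟨classInd 1, isLocClass_classInd hM 1, fun χ hχ => absurd hχ (Finset.notMem_empty χ),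
      fun g => ?_⟩
    rw [sub_self]
    exact locIdeal_zero hM
  | insert ξ s hξs ih =>
    intro y hy
    rw [Finset.card_insert_of_notMem hξs] at hy
    cases hy with
    | succ hf hz =>
      rename_i f z₀
      obtain ⟨z', hz', hz'ω, hz'c⟩ := ih z₀ hz
      have htloc : MemLocalRing M (omega (ξ : K → ℂ) f) := omega_locRing hM ξ hf.1
      refine ⟨conv f z' + (-(omega (ξ : K → ℂ) f)) • z',
        isLocClass_add hM (isLocClass_conv hM hf.1 hz')
          (isLocClass_smul hM (locRing_neg htloc) hz'), fun χ hχ => ?_, fun g => ?_⟩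
      · rw [omega_add, omega_smul, omega_conv χ f z' hf.1.1 hz'.1]
        rcases Finset.mem_insert.mp hχ with h | h
        · rw [h]
          ring
        · rw [hz'ω χ h]
          ring
      · have h1 := conv_sub_locIdeal hM hf.1.2 hz'c g
        have h2 : MemLocalIdeal M ((-(omega (ξ : K → ℂ) f)) * z' g) :=
          locIdeal_mul_right hM (locIdeal_neg (hf.2 ξ)) (hz'.2 g)
        have h3 := locIdeal_add hM h1 h2
        have e : conv f z' g - conv f z₀ g + (-(omega (ξ : K → ℂ) f)) * z' g =
            (conv f z' + (-(omega (ξ : K → ℂ) f)) • z') g - conv f z₀ g := by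
          simp only [Pi.add_apply, Pi.smul_apply, smul_eq_mul]
          ring
        rwa [e] at h3

/-- A product of `|Irr(K)|` elements of the radical has all coefficients in the local
ideal. -/
theorem jPow_locIdeal (hM : IsPModular p M) [Fintype (IrrCharacter K)] (y : K → ℂ)
    (hy : JPow M (Fintype.card (IrrCharacter K)) y) (g : K) : MemLocalIdeal M (y g) := by
  classical
  obtain ⟨z, hz, hzω, hzc⟩ := jPow_exists hM (Finset.univ : Finset (IrrCharacter K)) y
    (by rw [Finset.card_univ]; exact hy)
  have hz0 : z = 0 := eq_zero_of_omega_eq_zero z hz.1 fun ψ => hzω ψ (Finset.mem_univ ψ)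
  have h1 := locIdeal_neg (hzc g)
  rw [hz0] at h1
  simpa using h1

end Radical

section Sandwich

variable {G : Type*} [Group G] [Fintype G] (N : Subgroup G) [hN : N.Normal] [Fintype N]
  {p : ℕ} {M : Ideal AlgInt}

/-- If every product of components along a nonempty word with product `1` lies in the radical
of the centre of the local group ring of `N`, then a product along a word of length at least
`m * |G / N|` is divisible by a product of `m` elements of the radical. -/
theorem wprod_sandwich (hM : IsPModular p M) [Fintype (G ⧸ N)] (c : G ⧸ N → G → ℂ)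
    (hinv : ∀ w, NInv N (c w)) (hloc : ∀ w g, MemLocalRing M (c w g))
    (hsupp : ∀ w, SuppOn N w (c w))
    (hseg : ∀ l : List (G ⧸ N), l ≠ [] → l.prod = 1 → JRad M (resF N (wprod N c l))) :
    ∀ (m : ℕ) (l : List (G ⧸ N)), m * Fintype.card (G ⧸ N) ≤ l.length →
      ∃ s : N → ℂ, JPow M m s ∧ ∃ x : G → ℂ, NInv N x ∧ (∀ g, MemLocalRing M (x g)) ∧
        wprod N c l = conv (extendByZero N s) x := by
  intro m
  induction m with
  | zero =>
    intro l _
    refine ⟨classInd 1, JPow.zero, wprod N c l, wprod_nInv N hinv l, wprod_loc N hM hloc l, ?_⟩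
    rw [ext_classInd_one, classInd_one_conv]
  | succ m ih =>
    intro l hl
    have hl1 : Fintype.card (G ⧸ N) ≤ l.length := by
      have : (m + 1) * Fintype.card (G ⧸ N) = m * Fintype.card (G ⧸ N) + Fintype.card (G ⧸ N) := by
        ring
      omega
    obtain ⟨l₀, l₁, l₂, rfl, hne, hprod, hlen⟩ := exists_split l hl1
    have hl2 : m * Fintype.card (G ⧸ N) ≤ l₂.length := by
      have : (m + 1) * Fintype.card (G ⧸ N) = m * Fintype.card (G ⧸ N) + Fintype.card (G ⧸ N) := by
        ring
      omega
    obtain ⟨s', hs', x', hx'inv, hx'loc, hx'⟩ := ih l₂ hl2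
    have hJ := hseg l₁ hne hprod
    have h1 : wprod N c l₁ = extendByZero N (resF N (wprod N c l₁)) := by
      have h2 := wprod_suppOn N hsupp l₁
      rw [hprod] at h2
      exact (ext_resF N h2).symm
    set s₁ := resF N (wprod N c l₁) with hs₁
    have h0inv := wprod_nInv N hinv l₀
    refine ⟨conv s₁ s', JPow.succ hJ hs', conv (wprod N c l₀) x', nInv_conv N h0inv hx'inv,
      conv_locRing hM (wprod_loc N hM hloc l₀) hx'loc, ?_⟩
    rw [wprod_append, wprod_append, hx', h1]
    rw [← conv_ext_comm N s₁ h0inv, conv_assoc (extendByZero N s₁),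
      ← conv_assoc (wprod N c l₀), ← conv_ext_comm N s' h0inv, conv_assoc (extendByZero N s'),
      ← conv_assoc (extendByZero N s₁), ← ext_conv]

end Sandwich

section GU

variable {G : Type*} [Group G] [Fintype G] (N : Subgroup G) [hN : N.Normal] [Fintype N]
  {p : ℕ} {M : Ideal AlgInt}

omit [Fintype G] [Fintype N] hN in
theorem bG_loc (hM : IsPModular p M) (b : Set (IrrCharacter N))
    (hbl : ∀ n, MemLocalRing M (blockCoeff b n)) (g : G) : MemLocalRing M (bG N b g) := by
  unfold bG
  by_cases hg : g ∈ N
  · rw [Helper46.extendByZero_of_mem N _ hg]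
    exact hbl _
  · rw [Helper46.extendByZero_of_not_mem N _ hg]
    exact locRing_zero hM

/-- The graded-unit lemma.  Let `e_b` be the idempotent of a set `b` of irreducible characters
of the normal subgroup `N` (with local coefficients) and `a` a local `N`-invariant function on
`G` such that `i = e_b * a` is an idempotent.  If for every coset `w` of `N` and every local
`N`-invariant function `u` supported on `w⁻¹` the central characters of all members of `b`
take values in the local ideal on `i_w * u` (an element of the centre of the local group ring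
of `N`), then `i = 0`. -/
theorem graded_unit (hM : IsPModular p M) (b : Set (IrrCharacter N))
    (hbl : ∀ n, MemLocalRing M (blockCoeff b n)) (a : G → ℂ) (ha : NInv N a)
    (hal : ∀ g, MemLocalRing M (a g))
    (hid : conv (conv (bG N b) a) (conv (bG N b) a) = conv (bG N b) a)
    (H : ∀ (w : G ⧸ N) (u : G → ℂ), NInv N u → (∀ g, MemLocalRing M (u g)) → SuppOn N w⁻¹ u →
      ∀ θ ∈ b, MemLocalIdeal M
        (omega (θ : N → ℂ) (resF N (conv (conv (bG N b) (trunc N w a)) u)))) :
    conv (bG N b) a = 0 := by
  classical
  haveI : Fintype (G ⧸ N) := Fintype.ofFinite _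
  haveI := irr_finite (G := N)
  letI : Fintype (IrrCharacter N) := Fintype.ofFinite _
  set c : G ⧸ N → G → ℂ := fun w => conv (bG N b) (trunc N w a) with hc
  have hbGinv : NInv N (bG N b) := ext_nInv N (blockCoeff_isClassFunction b)
  have hbGloc : ∀ g, MemLocalRing M (bG N b g) := bG_loc N hM b hbl
  have hinv : ∀ w, NInv N (c w) := fun w => nInv_conv N hbGinv (trunc_nInv N w ha)
  have hloc : ∀ w g, MemLocalRing M (c w g) :=
    fun w g => conv_locRing hM hbGloc (trunc_loc N hM w hal) g
  have hsupp : ∀ w, SuppOn N w (c w) := by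
    intro w
    have := suppOn_conv N (ext_suppOn N (blockCoeff b)) (trunc_suppOn N w a)
    rwa [one_mul] at this
  have hsum : ∑ w, c w = conv (bG N b) a := by
    rw [← conv_sum_right, sum_trunc]
  have hseg : ∀ l : List (G ⧸ N), l ≠ [] → l.prod = 1 → JRad M (resF N (wprod N c l)) := by
    intro l hne hprod
    cases l with
    | nil => exact absurd rfl hne
    | cons w l' =>
      rw [List.prod_cons] at hprod
      have hw' : l'.prod = w⁻¹ := eq_inv_of_mul_eq_one_right hprod
      have huinv : NInv N (wprod N c l') := wprod_nInv N hinv l'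
      have huloc : ∀ g, MemLocalRing M (wprod N c l' g) := wprod_loc N hM hloc l'
      have husupp : SuppOn N w⁻¹ (wprod N c l') := by
        have := wprod_suppOn N hsupp l'
        rwa [hw'] at this
      rw [wprod_cons]
      refine ⟨⟨resF_isClassFunction N (nInv_conv N (hinv w) huinv),
        fun n => conv_locRing hM (hloc w) huloc _⟩, fun ξ => ?_⟩
      by_cases hξ : ξ ∈ b
      · exact H w _ huinv huloc husupp ξ hξ
      · have h1 : conv (c w) (wprod N c l') =
            conv (bG N b) (conv (trunc N w a) (wprod N c l')) := conv_assoc _ _ _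
        have h2 : SuppOn N 1 (conv (trunc N w a) (wprod N c l')) := by
          have := suppOn_conv N (trunc_suppOn N w a) husupp
          rwa [mul_inv_cancel] at this
        have h3 : NInv N (conv (trunc N w a) (wprod N c l')) :=
          nInv_conv N (trunc_nInv N w ha) huinv
        have h4 : resF N (conv (c w) (wprod N c l')) =
            conv (blockCoeff b) (resF N (conv (trunc N w a) (wprod N c l'))) := by
          rw [h1]
          conv_lhs => rw [← ext_resF N h2]
          unfold bG
          rw [resF_conv_ext]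
        rw [h4, omega_conv ξ _ _ (blockCoeff_isClassFunction b) (resF_isClassFunction N h3),
          omega_blockCoeff, if_neg hξ, zero_mul]
        exact locIdeal_zero hM
  have hwords : ∀ l : List (G ⧸ N),
      l.length = Fintype.card (IrrCharacter N) * Fintype.card (G ⧸ N) + 1 →
      ∀ g, MemLocalIdeal M (conv (classInd (1 : G)) (wprod N c l) g) := by
    intro l hl g
    rw [classInd_one_conv]
    obtain ⟨s, hs, x, hxinv, hxloc, hx⟩ := wprod_sandwich N hM c hinv hloc hsupp hseg
      (Fintype.card (IrrCharacter N)) l (by omega)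
    rw [hx]
    refine conv_locIdeal_of_left hM (fun g' => ?_) hxloc g
    by_cases hg' : g' ∈ N
    · rw [Helper46.extendByZero_of_mem N _ hg']
      exact jPow_locIdeal hM s hs _
    · rw [Helper46.extendByZero_of_not_mem N _ hg']
      exact locIdeal_zero hM
  have hfin := conv_cpow_locIdeal_of_words N hM c (conv (bG N b) a) hsum
    (Fintype.card (IrrCharacter N) * Fintype.card (G ⧸ N) + 1) (classInd 1) hwords
  rw [cpow_of_idem _ hid, classInd_one_conv] at hfin
  exact idem_eq_zero_of_locIdeal hM _ hid hfin

end GU

end Cfsg.Agent.Lib.Helper33
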