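import Mathlib
import Cfsg.Agent.Lib.Helper33.Graded
import Cfsg.Agent.S0964

/-!
# Covering of blocks and the graded-unit lemma (helper33)

`N` is a normal subgroup of `G`, `b` a block of `N` and `B` a block of `G` covering `b`.
`cover_unit`: for some coset `w` of `N` and some local `N`-invariant `u` supported on `w⁻¹`,
the central character of some member of `b` is a unit on `(e_b e_B)_w * u`.
-/

set_option autoImplicit false

namespace Cfsg.Agent.Lib.Helper33

open Cfsg Cfsg.Agent.Lib.Helper4 Cfsg.Agent.Lib.Helper21 Cfsg.Agent.Lib.Helper22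
  Cfsg.Agent.Lib.Helper20
open scoped ComplexConjugate

section CoverGU

variable {G : Type*} [Group G] [Fintype G] (N : Subgroup G) [hN : N.Normal] [Fintype N]
  {p : ℕ} {M : Ideal AlgInt}

omit hN in
theorem sum_bG_mul_irr_ne_zero (A : Set (IrrCharacter N)) (χ : IrrCharacter G)
    (θ : IrrCharacter N) (hθ : θ ∈ A)
    (hne : classInner (fun n : N => (χ : G → ℂ) n) (θ : N → ℂ) ≠ 0) :
    ∑ g, bG N A g * (χ : G → ℂ) g ≠ 0 := by
  classical
  have := irr_finite (G := N)
  let _ := Fintype.ofFinite (IrrCharacter N)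
  unfold bG
  rw [Cfsg.Agent.S0964.sum_ext_blockCoeff N A χ]
  have hk : ∀ φ : IrrCharacter N, ∃ k : ℕ,
      classInner (fun n : N => (χ : G → ℂ) n) (φ : N → ℂ) = k :=
    fun φ => Helper35.classInner_char_nat
      (Helper35.isCharacter_res N (isCharacter_of_irr χ)) (isCharacter_of_irr φ)
  choose k hk using hk
  have hsum : ∑ φ : IrrCharacter N, classInner (fun n : N => (χ : G → ℂ) n) (φ : N → ℂ) *
      ((if φ ∈ A then (1 : ℂ) else 0) * (φ : N → ℂ) 1) =
      ((∑ φ : IrrCharacter N, k φ * ((if φ ∈ A then 1 else 0) *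
        charDegree (φ : N → ℂ)) : ℕ) : ℂ) := by
    push_cast
    refine Finset.sum_congr rfl fun φ _ => ?_
    rw [hk φ, (Helper83.irr_degree φ.2).2]
  rw [hsum]
  have hpos : 0 < ∑ φ : IrrCharacter N, k φ * ((if φ ∈ A then 1 else 0) *
      charDegree (φ : N → ℂ)) := by
    refine Finset.sum_pos' (fun _ _ => Nat.zero_le _) ⟨θ, Finset.mem_univ _, ?_⟩
    have hkθ : k θ ≠ 0 := by
      intro h0
      apply hne
      rw [hk θ, h0]
      simp
    rw [if_pos hθ, one_mul]
    exact Nat.mul_pos (Nat.pos_of_ne_zero hkθ) (Helper83.irr_degree θ.2).1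
  exact_mod_cast hpos.ne'

omit hN in
theorem sum_bG_mul_irr_eq_zero (A : Set (IrrCharacter N)) (χ : IrrCharacter G)
    (h : ∀ θ ∈ A, classInner (fun n : N => (χ : G → ℂ) n) (θ : N → ℂ) = 0) :
    ∑ g, bG N A g * (χ : G → ℂ) g = 0 := by
  classical
  have := irr_finite (G := N)
  let _ := Fintype.ofFinite (IrrCharacter N)
  unfold bG
  rw [Cfsg.Agent.S0964.sum_ext_blockCoeff N A χ]
  refine Finset.sum_eq_zero fun φ _ => ?_
  by_cases hφ : φ ∈ A
  · rw [h φ hφ, zero_mul]
  · rw [if_neg hφ, zero_mul, mul_zero]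

omit hN in
theorem conv_bG_blockCoeff_idem (b : Set (IrrCharacter N)) (B : Set (IrrCharacter G)) :
    conv (conv (bG N b) (blockCoeff B)) (conv (bG N b) (blockCoeff B)) =
      conv (bG N b) (blockCoeff B) := by
  have hB := blockCoeff_isClassFunction B
  rw [conv_assoc, ← conv_assoc (blockCoeff B),
    conv_comm_of_isClassFunction (blockCoeff B) (bG N b) hB, conv_assoc (bG N b) (blockCoeff B),
    conv_blockCoeff_self, ← conv_assoc, conv_bG]

omit hN in
theorem conv_bG_blockCoeff_ne_zero (b : Set (IrrCharacter N)) (B : Set (IrrCharacter G))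
    (χ : IrrCharacter G) (hχ : χ ∈ B) (θ : IrrCharacter N) (hθ : θ ∈ b)
    (hne : classInner (fun n : N => (χ : G → ℂ) n) (θ : N → ℂ) ≠ 0) :
    conv (bG N b) (blockCoeff B) ≠ 0 := by
  classical
  intro h0
  have h1 : conv (blockCoeff B) (fun u => conj ((χ : G → ℂ) u)) =
      fun u => conj ((χ : G → ℂ) u) := by
    rw [conv_conj_irr _ (blockCoeff_isClassFunction B) χ, omega_blockCoeff, if_pos hχ, one_smul]
  have h2 : conv (conv (bG N b) (blockCoeff B)) (fun u => conj ((χ : G → ℂ) u)) 1 =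
      ∑ g, bG N b g * (χ : G → ℂ) g := by
    rw [conv_assoc, h1, conv_apply]
    refine Finset.sum_congr rfl fun g _ => ?_
    rw [mul_one, irr_inv, Complex.conj_conj]
  rw [h0, conv_zero_left] at h2
  exact sum_bG_mul_irr_ne_zero N b χ θ hθ hne h2.symm

/-- The graded-unit lemma for a block `B` of `G` covering the block `b` of `N`. -/
theorem cover_unit (hM : IsPModular p M) (b : Set (IrrCharacter N)) (hb : IsPBlock M b)
    (B : Set (IrrCharacter G)) (hB : IsPBlock M B)
    (hcov : ∃ χ ∈ B, ∃ θ ∈ b, classInner (fun n : N => (χ : G → ℂ) n) (θ : N → ℂ) ≠ 0)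
    (H : ∀ (w : G ⧸ N) (u : G → ℂ), NInv N u → (∀ g, MemLocalRing M (u g)) → SuppOn N w⁻¹ u →
      ∀ θ ∈ b, MemLocalIdeal M (omega (θ : N → ℂ)
        (resF N (conv (conv (bG N b) (trunc N w (blockCoeff B))) u)))) : False := by
  obtain ⟨χ, hχ, θ, hθ, hne⟩ := hcov
  apply conv_bG_blockCoeff_ne_zero N b B χ hχ θ hθ hne
  exact graded_unit N hM b (osima hM b hb) (blockCoeff B)
    (fun n _ g => blockCoeff_isClassFunction B g n) (osima hM B hB)
    (conv_bG_blockCoeff_idem N b B) H

end CoverGU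

section Saturated

variable {K : Type*} [Group K] [Fintype K] {p : ℕ} {M : Ideal AlgInt}

/-- If the idempotent of a union of blocks has a unit coefficient at `g`, so has the
idempotent of one of the blocks. -/
theorem exists_blockOf_unit_of_saturated (hM : IsPModular p M)
    (A : Set (IrrCharacter K)) (hA : ∀ φ ∈ A, blockOf M (φ : K → ℂ) ⊆ A) (g : K)
    (hg : ¬ MemLocalIdeal M (blockCoeff A g)) :
    ∃ φ ∈ A, ¬ MemLocalIdeal M (blockCoeff (blockOf M (φ : K → ℂ)) g) := by
  classical
  have := irr_finite (G := K)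
  let _ := Fintype.ofFinite (IrrCharacter K)
  by_contra hcon
  push Not at hcon
  apply hg
  set S : Finset (Set (IrrCharacter K)) :=
    (Finset.univ.filter (fun φ : IrrCharacter K => φ ∈ A)).image
      (fun φ : IrrCharacter K => blockOf M (φ : K → ℂ)) with hS
  have hind : ∀ χ : IrrCharacter K, (if χ ∈ A then (1 : ℂ) else 0) =
      ∑ c ∈ S, (if χ ∈ c then (1 : ℂ) else 0) := by
    intro χ
    by_cases hχ : χ ∈ A
    · rw [if_pos hχ]
      have hmem : blockOf M (χ : K → ℂ) ∈ S :=
        Finset.mem_image.mpr ⟨χ, Finset.mem_filter.mpr ⟨Finset.mem_univ _, hχ⟩, rfl⟩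
      rw [Finset.sum_eq_single_of_mem _ hmem, if_pos (mem_blockOf_self hM χ)]
      intro c hc hne
      obtain ⟨φ₀, -, rfl⟩ := Finset.mem_image.mp hc
      rw [if_neg]
      intro hχc
      exact hne (blockOf_eq_of_sameBlock hM hχc).symm
    · rw [if_neg hχ]
      symm
      refine Finset.sum_eq_zero fun c hc => ?_
      obtain ⟨φ₀, hφ₀, rfl⟩ := Finset.mem_image.mp hc
      rw [if_neg]
      intro hχc
      exact hχ (hA φ₀ (Finset.mem_filter.mp hφ₀).2 hχc)
  have hsum : blockCoeff A g = ∑ c ∈ S, blockCoeff c g := by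
    simp only [blockCoeff_eq_sum]
    rw [← Finset.mul_sum, Finset.sum_comm]
    congr 1
    refine Finset.sum_congr rfl fun χ _ => ?_
    rw [hind χ, Finset.sum_mul]
  rw [hsum]
  refine locIdeal_sum hM _ _ fun c hc => ?_
  obtain ⟨φ₀, hφ₀, rfl⟩ := Finset.mem_image.mp hc
  exact hcon φ₀ (Finset.mem_filter.mp hφ₀).2

end Saturated

section ConjBlock

variable {G : Type*} [Group G] (N : Subgroup G) [hN : N.Normal] [Fintype N]
  {p : ℕ} {M : Ideal AlgInt}

/-- The idempotent of the conjugate block is the conjugate of the idempotent. -/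
theorem blockCoeff_blockOf_irrConjFun (θ : IrrCharacter N) (g : G) :
    blockCoeff (blockOf M ((irrConjFun N θ g : IrrCharacter N) : N → ℂ)) =
      conjFun N (blockCoeff (blockOf M (θ : N → ℂ))) g := by
  classical
  refine eq_of_omega_eq _ _ (blockCoeff_isClassFunction _)
    (conjFun_isClassFunction N (blockCoeff_isClassFunction _) g) (fun ψ => ?_)
  rw [omega_blockCoeff, omega_conjFun_blockCoeff]
  have hiff : ψ ∈ blockOf M ((irrConjFun N θ g : IrrCharacter N) : N → ℂ) ↔
      irrConjFun N ψ g⁻¹ ∈ blockOf M (θ : N → ℂ) := by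
    constructor
    · intro h
      have h1 : SameBlock M (conjFun N (θ : N → ℂ) g) (ψ : N → ℂ) := h
      have h2 := sameBlock_conjFun N h1 g⁻¹
      rw [conjFun_conjFun, mul_inv_cancel, conjFun_one] at h2
      exact h2
    · intro h
      have h1 : SameBlock M (θ : N → ℂ) (conjFun N (ψ : N → ℂ) g⁻¹) := h
      have h2 := sameBlock_conjFun N h1 g
      rw [conjFun_conjFun, inv_mul_cancel, conjFun_one] at h2
      exact h2
  by_cases hψ : ψ ∈ blockOf M ((irrConjFun N θ g : IrrCharacter N) : N → ℂ)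
  · rw [if_pos hψ, if_pos (hiff.mp hψ)]
  · rw [if_neg hψ, if_neg (fun h => hψ (hiff.mpr h))]

end ConjBlock

end Cfsg.Agent.Lib.Helper33
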