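import Mathlib
import Cfsg.Agent.Lib.Helper81.BrAb
import Cfsg.Agent.Lib.Helper81.BrSat1

/-!
# Fusion of subpairs of a maximal Brauer pair with abelian subgroup (helper33)

Two-pair version of helper81's `stab_factor_of_abelian`: if `(Q, f)` and `(Q', f')` lie below the
maximal `B`-pair `(P, e)` with `P` abelian and `x` conjugates `(Q, f)` to `(Q', f')`, then
`x = c * y` with `y` fixing `(P, e)` and `c ∈ C_G(Q')`.
-/

set_option autoImplicit false
set_option linter.style.haveILetI false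

namespace Cfsg.Agent.Lib.Helper33.Klein

open Cfsg Cfsg.Agent.Lib.Helper4 Cfsg.Agent.Lib.Helper21 Cfsg.Agent.Lib.Helper22
open Cfsg.Agent.Lib.Helper81
open scoped ComplexConjugate

section Fus

variable {G : Type*} [Group G] [Fintype G] {p : ℕ} {M : Ideal AlgInt}

theorem fusion_of_abelian (hM : IsPModular p M) [Fact p.Prime]
    (B : Set (IrrCharacter G)) (P : Subgroup G)
    (e : Set (IrrCharacter (Subgroup.centralizer (P : Set G))))
    (hmax : IsMaximalBrauerPair p M B P e) (hab : ∀ x ∈ P, ∀ y ∈ P, x * y = y * x)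
    (Q : Subgroup G) (f : Set (IrrCharacter (Subgroup.centralizer (Q : Set G))))
    (hle : SubpairLE p M Q f P e)
    (Q' : Subgroup G) (f' : Set (IrrCharacter (Subgroup.centralizer (Q' : Set G))))
    (hf' : IsPBlock M f') (hle' : SubpairLE p M Q' f' P e) (x : G)
    (hx : conjPair x (⟨Q, f⟩ : BrauerPairIdx G) = ⟨Q', f'⟩) :
    ∃ y : G, conjPair y (⟨P, e⟩ : BrauerPairIdx G) = ⟨P, e⟩ ∧
      ∃ c ∈ Subgroup.centralizer (Q' : Set G), x = c * y := by
  classical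
  letI : Fintype (Subgroup.centralizer (Q' : Set G)) := Fintype.ofFinite _
  have hPe := hmax.1.1
  have hB := hmax.1.2.1
  have hQP : Q ≤ P := reflTransGen_le _ _ hle
  have hQ'P : Q' ≤ P := reflTransGen_le _ _ hle'
  have hPC : P ≤ Subgroup.centralizer (Q' : Set G) := fun y hy =>
    Subgroup.mem_centralizer_iff.mpr (fun q hq => hab q (hQ'P hq) y hy)
  have hPCQ : P ≤ Subgroup.centralizer (Q : Set G) := fun y hy =>
    Subgroup.mem_centralizer_iff.mpr (fun q hq => hab q (hQP hq) y hy)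
  have hQC : Q' ≤ Subgroup.centralizer (Q' : Set G) := hQ'P.trans hPC
  have hHN : Subgroup.centralizer (Q' : Set G) ≤ Subgroup.normalizer (Q' : Set G) :=
    Subgroup.centralizer_le_normalizer _
  have hHstab : ∀ h ∈ Subgroup.centralizer (Q' : Set G),
      StabilizesBlock (Subgroup.centralizer (Q' : Set G)) f' h :=
    fun h hh => stabilizesBlock_of_mem _ f' hh
  have hβ : ∀ h : Subgroup.centralizer (Q' : Set G), blockCoeff f' h =
      subgroupBlockCoeff (Subgroup.centralizer (Q' : Set G)) f' (h : G) :=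
    fun h => (subgroupBlockCoeff_mem _ f' h.2).symm
  have h1 : NormalSubpairRel p M ⟨Q', f'⟩ ⟨P, e⟩ :=
    normalSubpairRel_of_reflTransGen hM ⟨Q', f'⟩ ⟨P, e⟩ hle' hPe (hPC.trans hHN)
  have h1Q : NormalSubpairRel p M ⟨Q, f⟩ ⟨P, e⟩ :=
    normalSubpairRel_of_reflTransGen hM ⟨Q, f⟩ ⟨P, e⟩ hle hPe
      (hPCQ.trans (Subgroup.centralizer_le_normalizer _))
  have hQf : IsBrauerPairOf p M B Q' f' :=
    (brauerPairOf_iff_of_normalSubpair hM Q' P f' e h1 B hB).mp hmax.1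
  have h2 : NormalSubpairRel p M ⟨Q', f'⟩ (conjPair x ⟨P, e⟩) := by
    have h := normalSubpairRel_conjPair x _ _ h1Q
    rwa [hx] at h
  have hmax2 := isMaximal_conjPair hM B ⟨P, e⟩ hmax x
  have hQ'eq : Q.map (MulAut.conj x).toMonoidHom = Q' := congrArg Sigma.fst hx
  have hbC : (conjPair x (⟨P, e⟩ : BrauerPairIdx G)).1 ≤ Subgroup.centralizer (Q' : Set G) := by
    rintro _ ⟨y, hy, rfl⟩
    rw [Subgroup.mem_centralizer_iff]
    intro q hq
    rw [← hQ'eq] at hq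
    obtain ⟨q₀, hq₀, rfl⟩ := hq
    have h3 := hab _ (hQP hq₀) y hy
    show (x * q₀ * x⁻¹) * (x * y * x⁻¹) = x * y * x⁻¹ * (x * q₀ * x⁻¹)
    calc (x * q₀ * x⁻¹) * (x * y * x⁻¹) = x * (q₀ * y) * x⁻¹ := by group
      _ = x * (y * q₀) * x⁻¹ := by rw [h3]
      _ = x * y * x⁻¹ * (x * q₀ * x⁻¹) := by group
  obtain ⟨b, hb⟩ : ∃ b : BrauerPairIdx G, b = conjPair x ⟨P, e⟩ := ⟨_, rfl⟩
  rw [← hb] at h2 hmax2 hbC
  have hQb : Q' ≤ b.1 := h2.2.2.1
  obtain ⟨α, hα, hQα, hαe⟩ := exists_eq_upPair Q' _ le_rfl hQC ⟨P, e⟩ hQ'P hPC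
  obtain ⟨γ, hγ, hQγ, hγe⟩ := exists_eq_upPair Q' _ le_rfl hQC b hQb hbC
  have hα_pair : IsBrauerPairOf p M f' α.1 α.2 :=
    brauerPairOf_of_normalSubpairRel_upPair Q' f' _ le_rfl f' hf' hβ α hα
      (by rw [← hαe]; exact h1)
  have hγ_pair : IsBrauerPairOf p M f' γ.1 γ.2 :=
    brauerPairOf_of_normalSubpairRel_upPair Q' f' _ le_rfl f' hf' hβ γ hγ
      (by rw [← hγe]; exact h2)
  have hα_max : IsMaximalBrauerPair p M f' α.1 α.2 :=
    isMaximal_down hM Q' f' _ le_rfl hQC hHN hHstab f' hβ B hQf α hα hQα hα_pair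
      (by rw [← hαe]; exact hmax)
  have hγ_max : IsMaximalBrauerPair p M f' γ.1 γ.2 :=
    isMaximal_down hM Q' f' _ le_rfl hQC hHN hHstab f' hβ B hQf γ hγ hQγ hγ_pair
      (by rw [← hγe]; exact hmax2)
  obtain ⟨h, hh⟩ := exists_conjPair_eq_of_maximal hM f' α γ hα_max hγ_max
  have h5 : conjPair (h : G) b = ⟨P, e⟩ := by
    rw [hγe, conjPair_upPair Q' _ le_rfl hHN γ hγ h (hCent_conj hHN hγ h), hαe]
    exact upPair_congr Q' _ le_rfl hh _ _
  rw [hb, conjPair_mul] at h5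
  refine ⟨(h : G) * x, h5, (h : G)⁻¹, inv_mem h.2, by group⟩

end Fus

end Cfsg.Agent.Lib.Helper33.Klein
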