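import Mathlib

/-!
# Project QB (helper48, S2359), piece INVCONJ (backup copy c, helper33)

All involutions are conjugate when the Sylow 2-subgroups are self-centralizing of order 8 with
normalizer of order 168: an element of order 7 of the normalizer permutes the 7 non-identity
elements of the Sylow subgroup transitively.  Auxiliary names are prefixed `invc_`.
-/

set_option autoImplicit false

namespace Cfsg.Agent.Lib.Helper48.QB

theorem invc_cancel {G : Type*} [Group G] (p c s : G)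
    (h : p * s * p⁻¹ = p * c * s * (p * c)⁻¹) : c * s * c⁻¹ = s := by
  have h1 : c * s * c⁻¹ = p⁻¹ * (p * c * s * (p * c)⁻¹) * p := by group
  rw [h1, ← h]
  group

theorem invc_conj {G : Type*} [Group G] (p r s : G) :
    r * p⁻¹ * (p * s * p⁻¹) * (r * p⁻¹)⁻¹ = r * s * r⁻¹ := by
  group

theorem invc_conj2 {G : Type*} [Group G] (h g a : G) :
    h * g * a * (h * g)⁻¹ = h * (g * a * g⁻¹) * h⁻¹ := by
  group

theorem invc_inv7 (d : ℕ) (h0 : 0 < d) (h7 : d < 7) : ∃ m, d * m % 7 = 1 := by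
  interval_cases d
  exacts [⟨1, rfl⟩, ⟨4, rfl⟩, ⟨5, rfl⟩, ⟨2, rfl⟩, ⟨3, rfl⟩, ⟨6, rfl⟩]

theorem invc_le {G : Type*} [Group G] (x s₀ : G) (hx7 : orderOf x = 7)
    (hnc : s₀ * x ≠ x * s₀) (i j : ℕ) (hij : i ≤ j) (hj : j < 7)
    (h : x ^ i * s₀ * (x ^ i)⁻¹ = x ^ j * s₀ * (x ^ j)⁻¹) : i = j := by
  by_contra hne
  obtain ⟨d, hd⟩ : ∃ d, j = i + d := ⟨j - i, by omega⟩
  have hd0 : 0 < d := by omega
  have hd7 : d < 7 := by omega
  have e : x ^ j = x ^ i * x ^ d := by rw [hd, pow_add]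
  rw [e] at h
  have h2 : x ^ d * s₀ * (x ^ d)⁻¹ = s₀ := invc_cancel (x ^ i) (x ^ d) s₀ h
  have h3 : x ^ d * s₀ = s₀ * x ^ d := mul_inv_eq_iff_eq_mul.1 h2
  obtain ⟨m, hm⟩ := invc_inv7 d hd0 hd7
  have hc : Commute (x ^ d) s₀ := h3
  have hc2 : Commute ((x ^ d) ^ m) s₀ := hc.pow_left m
  have hpow : (x ^ d) ^ m = x := by
    rw [← pow_mul, ← pow_mod_orderOf, hx7, hm, pow_one]
  rw [hpow] at hc2
  exact hnc hc2.eq.symm

theorem invc_injOn {G : Type*} [Group G] (x s₀ : G) (hx7 : orderOf x = 7)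
    (hnc : s₀ * x ≠ x * s₀) :
    Set.InjOn (fun i : ℕ => x ^ i * s₀ * (x ^ i)⁻¹) (Finset.range 7 : Set ℕ) := by
  intro i hi j hj h
  have hi' : i < 7 := Finset.mem_range.1 (Finset.mem_coe.1 hi)
  have hj' : j < 7 := Finset.mem_range.1 (Finset.mem_coe.1 hj)
  rcases le_total i j with hij | hij
  · exact invc_le x s₀ hx7 hnc i j hij hj' h
  · exact (invc_le x s₀ hx7 hnc j i hij hi' h.symm).symm

theorem invc_key {G : Type*} [Group G] [Finite G] (S : Sylow 2 G) (h8 : Nat.card S = 8)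
    (hcen : Subgroup.centralizer ((S : Subgroup G) : Set G) = S)
    (hN : Nat.card (Subgroup.normalizer ((S : Subgroup G) : Set G)) = 168)
    (s s' : G) (hs : s ∈ S) (hs1 : s ≠ 1) (hs' : s' ∈ S) (hs'1 : s' ≠ 1) :
    ∃ g : G, g * s * g⁻¹ = s' := by
  have : Fact (Nat.Prime 7) := ⟨by norm_num⟩
  obtain ⟨x', hx'⟩ := exists_prime_orderOf_dvd_card'
    (G := Subgroup.normalizer ((S : Subgroup G) : Set G)) 7 (by rw [hN]; norm_num)
  obtain ⟨x, hxN, hx7⟩ : ∃ x : G, x ∈ Subgroup.normalizer ((S : Subgroup G) : Set G) ∧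
      orderOf x = 7 := ⟨x', x'.2, by rw [Subgroup.orderOf_coe]; exact hx'⟩
  have hxS : x ∉ (S : Subgroup G) := by
    intro hmem
    have hdvd := Subgroup.orderOf_dvd_natCard (S : Subgroup G) hmem
    rw [hx7] at hdvd
    have h8' : Nat.card (S : Subgroup G) = 8 := h8
    rw [h8'] at hdvd
    exact absurd hdvd (by decide)
  have hxC : x ∉ Subgroup.centralizer ((S : Subgroup G) : Set G) := by
    intro hc
    rw [hcen] at hc
    exact hxS hc
  rw [Subgroup.mem_centralizer_iff] at hxC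
  push Not at hxC
  obtain ⟨s₀, hs₀S, hnc⟩ := hxC
  have hs₀S' : s₀ ∈ (S : Subgroup G) := hs₀S
  have hs₀1 : s₀ ≠ 1 := by
    intro h1
    apply hnc
    rw [h1, one_mul, mul_one]
  have hpowN : ∀ i : ℕ, x ^ i ∈ Subgroup.normalizer ((S : Subgroup G) : Set G) :=
    fun i => pow_mem hxN i
  have hsub : (fun i : ℕ => x ^ i * s₀ * (x ^ i)⁻¹) '' (Finset.range 7 : Set ℕ) ⊆
      ((S : Subgroup G) : Set G) \ {1} := by
    rintro _ ⟨i, -, rfl⟩
    refine ⟨?_, ?_⟩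
    · exact (Subgroup.mem_normalizer_iff.1 (hpowN i) s₀).1 hs₀S'
    · intro h1
      rw [Set.mem_singleton_iff] at h1
      exact hs₀1 (conj_eq_one_iff.1 h1)
  have hcardE : ((fun i : ℕ => x ^ i * s₀ * (x ^ i)⁻¹) '' (Finset.range 7 : Set ℕ)).ncard
      = 7 := by
    rw [Set.InjOn.ncard_image (invc_injOn x s₀ hx7 hnc), Set.ncard_coe_finset,
      Finset.card_range]
  have hcardS : (((S : Subgroup G) : Set G) \ {1}).ncard = 7 := by
    have hn : ((S : Subgroup G) : Set G).ncard = 8 := by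
      rw [← Nat.card_coe_set_eq]
      exact h8
    rw [Set.ncard_sdiff_singleton_of_mem (Subgroup.one_mem _), hn]
  have heq := Set.eq_of_subset_of_ncard_le hsub (by rw [hcardE, hcardS])
  have hmem : ∀ u : G, u ∈ (S : Subgroup G) → u ≠ 1 →
      ∃ i : ℕ, x ^ i * s₀ * (x ^ i)⁻¹ = u := by
    intro u hu hu1
    have hu' : u ∈ ((S : Subgroup G) : Set G) \ {1} := ⟨hu, fun h => hu1 (Set.mem_singleton_iff.1 h)⟩
    rw [← heq] at hu'
    obtain ⟨i, -, hi⟩ := hu'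
    exact ⟨i, hi⟩
  obtain ⟨i, hi⟩ := hmem s hs hs1
  obtain ⟨j, hj⟩ := hmem s' hs' hs'1
  refine ⟨x ^ j * (x ^ i)⁻¹, ?_⟩
  rw [← hi, ← hj]
  exact invc_conj (x ^ i) (x ^ j) s₀

theorem invc_sylow {G : Type*} [Group G] [Finite G] (a : G) (ha1 : a ≠ 1) (ha2 : a * a = 1) :
    ∃ S : Sylow 2 G, a ∈ S := by
  have ho : orderOf a = 2 := orderOf_eq_prime (by rw [pow_two]; exact ha2) ha1
  have hp : IsPGroup 2 (Subgroup.zpowers a) := by
    apply IsPGroup.of_card (n := 1)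
    rw [Nat.card_zpowers, ho, pow_one]
  obtain ⟨S, hS⟩ := hp.exists_le_sylow
  exact ⟨S, hS (Subgroup.mem_zpowers a)⟩

-- QB-INVCONJ
theorem inv_conj {G : Type*} [Group G] [Finite G]
    (hS : ∀ S : Sylow 2 G, Nat.card S = 8 ∧ (∀ x ∈ S, x * x = 1) ∧
      Subgroup.centralizer ((S : Subgroup G) : Set G) = S ∧
      Nat.card (Subgroup.normalizer ((S : Subgroup G) : Set G)) = 168)
    (a b : G) (ha1 : a ≠ 1) (ha2 : a * a = 1) (hb1 : b ≠ 1) (hb2 : b * b = 1) :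
    ∃ g : G, g * a * g⁻¹ = b := by
  obtain ⟨Sa, haS⟩ := invc_sylow a ha1 ha2
  obtain ⟨Sb, hbS⟩ := invc_sylow b hb1 hb2
  obtain ⟨g, hg⟩ := MulAction.exists_smul_eq G Sa Sb
  have hmem : g * a * g⁻¹ ∈ (Sb : Subgroup G) := by
    rw [← hg, Sylow.coe_subgroup_smul, Subgroup.mem_smul_pointwise_iff_exists]
    exact ⟨a, haS, by rw [MulAut.smul_def, MulAut.conj_apply]⟩
  have hne : g * a * g⁻¹ ≠ 1 := fun h => ha1 (conj_eq_one_iff.1 h)
  obtain ⟨h8, -, hcen, hN⟩ := hS Sb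
  obtain ⟨h, hh⟩ := invc_key Sb h8 hcen hN (g * a * g⁻¹) b hmem hne hbS hb1
  exact ⟨h * g, by rw [invc_conj2, hh]⟩

end Cfsg.Agent.Lib.Helper48.QB
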