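import Mathlib

/-!
# TG-MOD piece WED (helper33)

A finite-dimensional semisimple algebra `A` over a finite field `F` whose centre is `F`:
a simple `A`-module `V` satisfies `(finrank_F V)^2 = finrank_F A`.
-/

set_option autoImplicit false
set_option linter.style.haveILetI false

namespace Cfsg.Agent.Lib.Helper33.TG

/-- in a semisimple ring, a left ideal closed under right multiplication has a right identity -/
theorem wed_half {R : Type*} [Ring R] [IsSemisimpleRing R] (I : Ideal R)
    (hI : ∀ x ∈ I, ∀ r, x * r ∈ I) : ∃ e ∈ I, ∀ x ∈ I, x * e = x := by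
  obtain ⟨J, hJ⟩ := exists_isCompl I
  have h1 : (1 : R) ∈ I ⊔ J := by rw [hJ.sup_eq_top]; trivial
  obtain ⟨e, he, f, hf, hef⟩ := Submodule.mem_sup.mp h1
  refine ⟨e, he, fun x hx => ?_⟩
  have h2 : x * f ∈ I ⊓ J := ⟨hI x hx f, J.mul_mem_left x hf⟩
  rw [hJ.inf_eq_bot, Submodule.mem_bot] at h2
  calc x * e = x * e + x * f := by rw [h2, add_zero]
    _ = x * (e + f) := by rw [mul_add]
    _ = x := by rw [hef, mul_one]

/-- a two-sided ideal of a semisimple ring is generated by a central idempotent -/
theorem wed_central {R : Type*} [Ring R] [IsSemisimpleRing R] (I : Ideal R)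
    (hI : ∀ x ∈ I, ∀ r, x * r ∈ I) :
    ∃ e ∈ I, (∀ x ∈ I, x * e = x) ∧ ∀ a : R, e * a = a * e := by
  obtain ⟨e, he, he1⟩ := wed_half I hI
  -- the opposite ideal
  let I' : Ideal Rᵐᵒᵖ :=
    { carrier := {a | a.unop ∈ I}
      add_mem' := fun {a b} ha hb => by
        show (a + b).unop ∈ I
        rw [MulOpposite.unop_add]; exact I.add_mem ha hb
      zero_mem' := by
        show (0 : Rᵐᵒᵖ).unop ∈ I
        rw [MulOpposite.unop_zero]; exact I.zero_mem
      smul_mem' := fun c x hx => by
        show (c * x).unop ∈ I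
        rw [MulOpposite.unop_mul]; exact hI _ hx _ }
  have hI' : ∀ x ∈ I', ∀ r, x * r ∈ I' := by
    intro x hx r
    show (x * r).unop ∈ I
    rw [MulOpposite.unop_mul]
    exact I.mul_mem_left _ hx
  obtain ⟨e', he', he1'⟩ := wed_half I' hI'
  have he2 : ∀ x ∈ I, e'.unop * x = x := by
    intro x hx
    have := he1' (MulOpposite.op x) (show (MulOpposite.op x).unop ∈ I from hx)
    have h2 := congrArg MulOpposite.unop this
    rwa [MulOpposite.unop_mul, MulOpposite.unop_op] at h2
  have hee : e'.unop = e := by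
    have h1 := he1 e'.unop he'
    have h2 := he2 e he
    rw [← h1, h2]
  rw [hee] at he2
  refine ⟨e, he, he1, fun a => ?_⟩
  have h1 : e * a = e * a * e := (he1 _ (hI e he a)).symm
  have h2 : a * e = e * (a * e) := (he2 _ (I.mul_mem_left a he)).symm
  rw [h1, h2, mul_assoc]

/-- PIECE MOD-WED -/
theorem wed_dim {F : Type*} [Field F] [Finite F] {A : Type*} [Ring A] [Algebra F A]
    [Module.Finite F A] [IsSemisimpleRing A]
    (hZ : ∀ a ∈ Subalgebra.center F A, ∃ c : F, a = algebraMap F A c)
    {V : Type*} [AddCommGroup V] [Module F V] [Module A V] [IsScalarTower F A V]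
    [IsSimpleModule A V] :
    Module.finrank F V ^ 2 = Module.finrank F A := by
  classical
  haveI : Nontrivial V := IsSimpleModule.nontrivial A V
  haveI : Nontrivial A := by
    by_contra h
    rw [not_nontrivial_iff_subsingleton] at h
    obtain ⟨v, w, hvw⟩ := exists_pair_ne V
    apply hvw
    rw [← one_smul A v, ← one_smul A w, Subsingleton.elim (1 : A) 0, zero_smul, zero_smul]
  have hinj : Function.Injective (algebraMap F A) := (algebraMap F A).injective
  -- `A` is a simple ring
  haveI hsimple : IsSimpleRing A := by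
    rw [isSimpleRing_iff_isTwoSided_imp]
    refine ⟨inferInstance, fun I hI => ?_⟩
    obtain ⟨e, he, he1, hec⟩ := wed_central I (fun x hx r => I.mul_mem_right r hx)
    have hcen : e ∈ Subalgebra.center F A := by
      rw [Subalgebra.mem_center_iff]
      intro a
      exact (hec a).symm
    obtain ⟨c, hc⟩ := hZ e hcen
    have hidem : e * e = e := he1 e he
    have hc2 : c * c = c := by
      apply hinj
      rw [map_mul, ← hc, hidem]
    have hc01 : c = 0 ∨ c = 1 := by
      have : c * (c - 1) = 0 := by rw [mul_sub, hc2, mul_one, sub_self]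
      rcases mul_eq_zero.mp this with h | h
      · exact Or.inl h
      · exact Or.inr (sub_eq_zero.mp h)
    rcases hc01 with h | h
    · left
      rw [h, map_zero] at hc
      rw [Submodule.eq_bot_iff]
      intro x hx
      rw [← he1 x hx, hc, mul_zero]
    · right
      rw [h, map_one] at hc
      rw [Ideal.eq_top_iff_one, ← hc]
      exact he
  haveI : IsArtinianRing A := inferInstance
  obtain ⟨n, hn, S, hS, ⟨e⟩⟩ := (IsSimpleRing.isIsotypic A A).linearEquiv_fun
  have hn0 : n ≠ 0 := hn.out
  -- the matrix algebra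
  let ψ : A ≃ₐ[F] Matrix (Fin n) (Fin n) (Module.End A S)ᵐᵒᵖ :=
    .trans (.opOp F A) <| .trans (.op (.trans (.moduleEndSelf F) <|
      .trans (e.conjAlgEquiv F) (endVecAlgEquivMatrixEnd ..))) (.symm .mopMatrix)
  haveI : Module.Finite F (Matrix (Fin n) (Fin n) (Module.End A S)ᵐᵒᵖ) :=
    Module.Finite.equiv ψ.toLinearEquiv
  haveI hDfin : Module.Finite F (Module.End A S)ᵐᵒᵖ :=
    .of_surjective (Matrix.entryLinearMap F _ (⟨0, Nat.pos_of_ne_zero hn0⟩ : Fin n)
      (⟨0, Nat.pos_of_ne_zero hn0⟩ : Fin n)) fun f => ⟨fun _ _ => f, rfl⟩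
  haveI : Finite (Module.End A S)ᵐᵒᵖ := Module.finite_of_finite F
  have hcomm : ∀ x y : (Module.End A S)ᵐᵒᵖ, x * y = y * x :=
    fun x y => (littleWedderburn (Module.End A S)ᵐᵒᵖ).mul_comm x y
  -- every element of the division ring is a scalar
  have hscal : ∀ x : (Module.End A S)ᵐᵒᵖ, ∃ c : F, x = algebraMap F _ c := by
    intro x
    have hcen : ψ.symm (Matrix.scalar (Fin n) x) ∈ Subalgebra.center F A := by
      rw [Subalgebra.mem_center_iff]
      intro b
      have h1 : b = ψ.symm (ψ b) := (ψ.symm_apply_apply b).symm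
      rw [h1, ← map_mul, ← map_mul]
      congr 1
      exact (Matrix.scalar_commute x (fun r => hcomm x r) (ψ b)).eq.symm
    obtain ⟨c, hc⟩ := hZ _ hcen
    refine ⟨c, ?_⟩
    have h2 : Matrix.scalar (Fin n) x = ψ (algebraMap F A c) := by
      rw [← hc, ψ.apply_symm_apply]
    rw [AlgEquiv.commutes] at h2
    have h3 := congrFun (congrFun h2 ⟨0, Nat.pos_of_ne_zero hn0⟩) ⟨0, Nat.pos_of_ne_zero hn0⟩
    rw [Matrix.scalar_apply, Matrix.diagonal_apply_eq, Matrix.algebraMap_matrix_apply,
      if_pos rfl] at h3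
    exact h3
  have hD1 : Module.finrank F (Module.End A S)ᵐᵒᵖ = 1 := by
    have hbij : Function.Bijective (Algebra.linearMap F (Module.End A S)ᵐᵒᵖ) := by
      refine ⟨(algebraMap F (Module.End A S)ᵐᵒᵖ).injective, fun x => ?_⟩
      obtain ⟨c, hc⟩ := hscal x
      exact ⟨c, hc.symm⟩
    rw [← (LinearEquiv.ofBijective _ hbij).finrank_eq, Module.finrank_self]
  have hA1 : Module.finrank F A = n * n := by
    rw [ψ.toLinearEquiv.finrank_eq, Module.finrank_matrix, hD1, Fintype.card_fin, mul_one]
  -- the simple module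
  haveI : Module.Finite F ↥S :=
    Module.Finite.of_injective (S.subtype.restrictScalars F) Subtype.val_injective
  have hA2 : Module.finrank F A = n * Module.finrank F ↥S := by
    rw [(e.restrictScalars F).finrank_eq, Module.finrank_pi_fintype, Finset.sum_const,
      Finset.card_univ, Fintype.card_fin, smul_eq_mul]
  obtain ⟨v, hv⟩ := exists_ne (0 : V)
  let g : (Fin n → ↥S) →ₗ[A] V := (LinearMap.toSpanSingleton A V v).comp e.symm.toLinearMap
  have hg : g ≠ 0 := by
    intro h0
    have h1 : g (e 1) = v := by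
      show (LinearMap.toSpanSingleton A V v) (e.symm (e 1)) = v
      rw [e.symm_apply_apply, LinearMap.toSpanSingleton_apply, one_smul]
    rw [h0, LinearMap.zero_apply] at h1
    exact hv h1.symm
  have hex : ∃ i : Fin n, g.comp (LinearMap.single A (fun _ : Fin n => ↥S) i) ≠ 0 := by
    by_contra hcon
    push Not at hcon
    apply hg
    apply LinearMap.pi_ext
    intro i x
    have := congrArg (fun f => f x) (hcon i)
    simpa using this
  obtain ⟨i, hi⟩ := hex
  have hbij := LinearMap.bijective_of_ne_zero hi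
  have hSV : Module.finrank F ↥S = Module.finrank F V :=
    ((LinearEquiv.ofBijective _ hbij).restrictScalars F).finrank_eq
  rw [hSV] at hA2
  have hVn : Module.finrank F V = n := by
    have : n * Module.finrank F V = n * n := by rw [← hA2, hA1]
    exact Nat.eq_of_mul_eq_mul_left (Nat.pos_of_ne_zero hn0) this
  rw [hVn, hA1, sq]

end Cfsg.Agent.Lib.Helper33.TG
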