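import Mathlib

/-!
# TI counting over the `p`-singular elements when a Sylow `p`-subgroup has order `p` (helper33)

`ti_count` : for a class function `F` on `G`,
`|N_G(P)| * ∑_{g p-singular} F g = |G| * ∑_{x ∈ C_G(P), p-singular} F x`.
-/

set_option autoImplicit false

namespace Cfsg.Agent.Lib.Helper33.TI

open scoped Pointwise

variable {G : Type*} [Group G] [Fintype G]

/-- for a `p`-singular `g` the elements `h` with `h⁻¹ g h ∈ C_G(P)` are exactly those with
`h P h⁻¹ = Q` for one Sylow subgroup `Q`. -/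
theorem exists_sylow_of_sing (p : ℕ) [Fact p.Prime] (P : Sylow p G) (hP : Nat.card P = p)
    (g : G) (hg : p ∣ orderOf g) :
    ∃ Q : Sylow p G, ∀ h : G,
      (h⁻¹ * g * h ∈ Subgroup.centralizer ((P : Subgroup G) : Set G)) ↔ h • P = Q := by
  classical
  have hp := (Fact.out : p.Prime)
  obtain ⟨m, hm⟩ := hg
  have hgo : 0 < orderOf g := orderOf_pos g
  have hm0 : 0 < m := by
    rcases Nat.eq_zero_or_pos m with h | h
    · rw [h, mul_zero] at hm; omega
    · exact h
  set u : G := g ^ m with hu
  have huo : orderOf u = p := by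
    rw [hu, orderOf_pow' g hm0.ne', hm, Nat.gcd_eq_right (Dvd.intro_left p rfl),
      Nat.mul_div_cancel _ hm0]
  have hpg : IsPGroup p (Subgroup.zpowers u) := by
    apply IsPGroup.of_card (n := 1)
    rw [Nat.card_zpowers, huo, pow_one]
  obtain ⟨Q, hQ⟩ := hpg.exists_le_sylow
  have hcardS : ∀ R : Sylow p G, Nat.card R = p := by
    intro R
    rw [Sylow.card_eq_multiplicity R, ← Sylow.card_eq_multiplicity P, hP]
  have hQeq : Subgroup.zpowers u = (Q : Subgroup G) := by
    apply Subgroup.eq_of_le_of_card_ge hQ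
    rw [Nat.card_zpowers, huo, hcardS Q]
  refine ⟨Q, fun h => ?_⟩
  have hug : Commute u g := by
    rw [hu]; exact (Commute.refl g).pow_left m
  constructor
  · intro hc
    -- `g` centralizes `h • P`
    have h1 : ∀ y ∈ ((h • P : Sylow p G) : Subgroup G), y * g = g * y := by
      intro y hy
      rw [Sylow.coe_subgroup_smul, Subgroup.mem_pointwise_smul_iff_inv_smul_mem] at hy
      have hy' : h⁻¹ * y * h ∈ (P : Subgroup G) := by
        simpa [MulAut.smul_def] using hy
      have := Subgroup.mem_centralizer_iff.mp hc _ hy'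
      have e1 : y * g = h * ((h⁻¹ * y * h) * (h⁻¹ * g * h)) * h⁻¹ := by group
      have e2 : g * y = h * ((h⁻¹ * g * h) * (h⁻¹ * y * h)) * h⁻¹ := by group
      rw [e1, e2, this]
    have h2 : Subgroup.zpowers u ≤ Subgroup.normalizer (((h • P : Sylow p G) : Subgroup G) : Set G) := by
      rw [Subgroup.zpowers_le]
      rw [Subgroup.mem_normalizer_iff]
      intro y
      have hcomm : ∀ y ∈ ((h • P : Sylow p G) : Subgroup G), u * y * u⁻¹ = y := by
        intro y hy
        have : Commute y u := by
          rw [hu]; exact (show Commute y g from h1 y hy).pow_right m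
        rw [← this.eq, mul_inv_cancel_right]
      constructor
      · intro hy; rw [hcomm y hy]; exact hy
      · intro hy
        have := hcomm _ hy
        have e : y = u⁻¹ * (u * y * u⁻¹) * u := by group
        have hc2 : Commute (u * y * u⁻¹) u := by
          rw [hu]; exact (show Commute (u * y * u⁻¹) g from h1 _ hy).pow_right m
        rw [e, mul_assoc, hc2.eq, ← mul_assoc, inv_mul_cancel, one_mul]; exact hy
    have h3 : Subgroup.zpowers u ≤ ((h • P : Sylow p G) : Subgroup G) := by
      rw [← hpg.sylow_mem_fixedPoints_iff, Subgroup.sylow_mem_fixedPoints_iff]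
      exact h2
    have h4 : Subgroup.zpowers u = ((h • P : Sylow p G) : Subgroup G) := by
      apply Subgroup.eq_of_le_of_card_ge h3
      rw [Nat.card_zpowers, huo, hcardS]
    exact Sylow.ext (h4.symm.trans hQeq)
  · intro hQ'
    rw [Subgroup.mem_centralizer_iff]
    intro y hy
    have hy2 : h * y * h⁻¹ ∈ ((h • P : Sylow p G) : Subgroup G) := by
      rw [Sylow.coe_subgroup_smul, Subgroup.mem_pointwise_smul_iff_inv_smul_mem]
      have e : (MulAut.conj h)⁻¹ • (h * y * h⁻¹) = y := by
        simp [MulAut.smul_def, mul_assoc]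
      rw [e]; exact hy
    rw [hQ', ← hQeq] at hy2
    obtain ⟨k, hk⟩ := Subgroup.mem_zpowers_iff.mp hy2
    have hc : Commute (h * y * h⁻¹) g := by
      rw [← hk]; exact (hug.zpow_left k)
    have e1 : y * (h⁻¹ * g * h) = h⁻¹ * ((h * y * h⁻¹) * g) * h := by group
    have e2 : h⁻¹ * g * h * y = h⁻¹ * (g * (h * y * h⁻¹)) * h := by group
    rw [e1, e2, hc.eq]

/-- the number of `h` with `h⁻¹ g h ∈ C_G(P)` is `|N_G(P)|` for `p`-singular `g`. -/
theorem card_fiber (p : ℕ) [Fact p.Prime] (P : Sylow p G) (hP : Nat.card P = p)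
    (g : G) (hg : p ∣ orderOf g) :
    Nat.card {h : G // h⁻¹ * g * h ∈ Subgroup.centralizer ((P : Subgroup G) : Set G)} =
      Nat.card (Subgroup.normalizer ((P : Subgroup G) : Set G)) := by
  classical
  obtain ⟨Q, hQ⟩ := exists_sylow_of_sing p P hP g hg
  obtain ⟨h₀, hh₀⟩ := MulAction.exists_smul_eq G P Q
  symm
  apply Nat.card_congr
  refine
    { toFun := fun n => ⟨h₀ * (n : G), ?_⟩
      invFun := fun h => ⟨h₀⁻¹ * (h : G), ?_⟩
      left_inv := fun n => by ext; simp
      right_inv := fun h => by ext; simp }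
  · rw [hQ, mul_smul, Sylow.smul_eq_iff_mem_normalizer.mpr n.2, hh₀]
  · have h1 := (hQ (h : G)).mp h.2
    apply Sylow.smul_eq_iff_mem_normalizer.mp
    rw [mul_smul, h1, ← hh₀, inv_smul_smul]

/-- **TI counting.** For a class function `F`,
`|N_G(P)| * ∑_{g p-singular} F g = |G| * ∑_{x ∈ C_G(P) p-singular} F x`. -/
theorem ti_count (p : ℕ) [Fact p.Prime] (P : Sylow p G) (hP : Nat.card P = p)
    [DecidablePred (· ∈ Subgroup.centralizer ((P : Subgroup G) : Set G))]
    (F : G → ℂ) (hF : ∀ g h : G, F (h * g * h⁻¹) = F g) :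
    (Nat.card (Subgroup.normalizer ((P : Subgroup G) : Set G)) : ℂ) *
        ∑ g : G, (if p ∣ orderOf g then F g else 0) =
      (Nat.card G : ℂ) * ∑ x : G,
        (if x ∈ Subgroup.centralizer ((P : Subgroup G) : Set G) ∧ p ∣ orderOf x
          then F x else 0) := by
  classical
  -- double sum
  have key : ∑ h : G, ∑ x : G,
      (if x ∈ Subgroup.centralizer ((P : Subgroup G) : Set G) ∧ p ∣ orderOf x
          then F x else 0) =
      ∑ g : G, ∑ h : G,
        (if h⁻¹ * g * h ∈ Subgroup.centralizer ((P : Subgroup G) : Set G) ∧ p ∣ orderOf g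
          then F g else 0) := by
    rw [Finset.sum_comm (γ := G) (α := G)
      (f := fun g h => if h⁻¹ * g * h ∈ Subgroup.centralizer ((P : Subgroup G) : Set G) ∧
        p ∣ orderOf g then F g else 0)]
    apply Finset.sum_congr rfl
    intro h _
    rw [← Equiv.sum_comp (MulAut.conj h).symm.toEquiv]
    apply Finset.sum_congr rfl
    intro g _
    have e : (MulAut.conj h).symm.toEquiv g = h⁻¹ * g * h := by
      simp [MulAut.conj_symm_apply]
    rw [e]
    have ho : orderOf (h⁻¹ * g * h) = orderOf g := by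
      have := orderOf_injective (MulAut.conj h⁻¹).toMonoidHom (MulAut.conj h⁻¹).injective g
      simpa using this
    have hFe : F (h⁻¹ * g * h) = F g := by
      have := hF g h⁻¹
      simpa using this
    rw [ho, hFe]
  have lhs : ∑ h : G, ∑ x : G,
      (if x ∈ Subgroup.centralizer ((P : Subgroup G) : Set G) ∧ p ∣ orderOf x
          then F x else 0) = (Nat.card G : ℂ) * ∑ x : G,
        (if x ∈ Subgroup.centralizer ((P : Subgroup G) : Set G) ∧ p ∣ orderOf x
          then F x else 0) := by
    rw [Finset.sum_const, Finset.card_univ, nsmul_eq_mul, Nat.card_eq_fintype_card]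
  rw [← lhs, key, Finset.mul_sum]
  apply Finset.sum_congr rfl
  intro g _
  by_cases hg : p ∣ orderOf g
  · rw [if_pos hg]
    have h1 : ∑ h : G,
        (if h⁻¹ * g * h ∈ Subgroup.centralizer ((P : Subgroup G) : Set G) ∧ p ∣ orderOf g
          then F g else 0) =
        ∑ h : G,
        (if h⁻¹ * g * h ∈ Subgroup.centralizer ((P : Subgroup G) : Set G) then F g else 0) := by
      apply Finset.sum_congr rfl
      intro h _
      simp [hg]
    rw [h1, ← Finset.sum_filter, Finset.sum_const, nsmul_eq_mul, ← card_fiber p P hP g hg,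
      Nat.card_eq_fintype_card, Fintype.card_subtype]
  · rw [if_neg hg, mul_zero]
    symm
    apply Finset.sum_eq_zero
    intro h _
    simp [hg]

end Cfsg.Agent.Lib.Helper33.TI
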