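import Mathlib
import Cfsg.Prelude.Def_Characters
import Cfsg.Prelude.Def_Blocks
import Cfsg.Agent.Lib.Helper22.PPart
import Cfsg.Agent.Lib.Helper33.TICount

/-!
# The `p`-singular elements of `C_G(P)` for `|P| = p`, and the TI inner product formula (helper33)
-/

set_option autoImplicit false

namespace Cfsg.Agent.Lib.Helper33.TI

open Cfsg
open scoped ComplexConjugate

variable {G : Type*} [Group G] [Fintype G]

/-- basic facts on a generator `z` of a Sylow subgroup of order `p`. -/
theorem gen_facts (p : ℕ) [Fact p.Prime] (P : Sylow p G) (hP : Nat.card P = p)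
    (z : G) (hz : z ∈ (P : Subgroup G)) (hz1 : z ≠ 1) :
    orderOf z = p ∧ Subgroup.zpowers z = (P : Subgroup G) ∧
      ∀ x : G, x ∈ Subgroup.centralizer ((P : Subgroup G) : Set G) ↔ x * z = z * x := by
  have hp := (Fact.out : p.Prime)
  have ho : orderOf z = p := by
    have h1 : orderOf z ∣ p := by
      have := Subgroup.orderOf_dvd_natCard (P : Subgroup G) hz
      rwa [hP] at this
    rcases (Nat.dvd_prime hp).mp h1 with h | h
    · exact absurd (orderOf_eq_one_iff.mp h) hz1
    · exact h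
  have hzp : Subgroup.zpowers z = (P : Subgroup G) := by
    apply Subgroup.eq_of_le_of_card_ge (by rwa [Subgroup.zpowers_le])
    rw [Nat.card_zpowers, ho, hP]
  refine ⟨ho, hzp, fun x => ?_⟩
  rw [Subgroup.mem_centralizer_iff]
  constructor
  · intro h; exact (h z hz).symm
  · intro h y hy
    rw [← hzp] at hy
    obtain ⟨k, rfl⟩ := Subgroup.mem_zpowers_iff.mp hy
    exact ((show Commute x z from h).zpow_right k).eq.symm

/-- the `p`-singular elements of `C_G(P)` are the `z ^ t * y`, `t ≠ 0`, `y ∈ K`. -/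
theorem sum_sing_C (p : ℕ) [Fact p.Prime] (P : Sylow p G) (hP : Nat.card P = p)
    (z : G) (hz : z ∈ (P : Subgroup G)) (hz1 : z ≠ 1)
    (K : Subgroup G) [Fintype K] (hK : ∀ y : G, y ∈ K ↔ (y * z = z * y ∧ ¬ p ∣ orderOf y))
    [DecidablePred (· ∈ Subgroup.centralizer ((P : Subgroup G) : Set G))]
    (F : G → ℂ) :
    ∑ x : G, (if x ∈ Subgroup.centralizer ((P : Subgroup G) : Set G) ∧ p ∣ orderOf x
        then F x else 0) =
      ∑ t : ZMod p, if t = 0 then 0 else ∑ y : K, F (z ^ t.val * (y : G)) := by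
  classical
  have hp := (Fact.out : p.Prime)
  obtain ⟨ho, hzp, hC⟩ := gen_facts p P hP z hz hz1
  have : NeZero p := ⟨hp.ne_zero⟩
  -- rewrite the right side as a sum over pairs
  have hR : (∑ t : ZMod p, if t = 0 then 0 else ∑ y : K, F (z ^ t.val * (y : G))) =
      ∑ q : ZMod p × K, if q.1 = 0 then 0 else F (z ^ q.1.val * (q.2 : G)) := by
    rw [Fintype.sum_prod_type]
    apply Finset.sum_congr rfl
    intro t _
    by_cases ht : t = 0
    · simp [ht]
    · simp [ht]
  rw [hR]
  -- facts about the map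
  have hpow_ne : ∀ t : ZMod p, t ≠ 0 → z ^ t.val ≠ 1 := by
    intro t ht h
    have := orderOf_dvd_of_pow_eq_one h
    rw [ho] at this
    have h2 := Nat.le_of_dvd (Nat.pos_of_ne_zero (by rwa [ne_eq, ZMod.val_eq_zero])) this
    have := ZMod.val_lt t
    omega
  have hord : ∀ t : ZMod p, t ≠ 0 → orderOf (z ^ t.val) = p := by
    intro t ht
    have h1 : orderOf (z ^ t.val) ∣ p := by
      have := orderOf_pow_dvd (x := z) t.val
      rwa [ho] at this
    rcases (Nat.dvd_prime hp).mp h1 with h | h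
    · exact absurd (orderOf_eq_one_iff.mp h) (hpow_ne t ht)
    · exact h
  have hinter : ∀ w : G, w ∈ K → w ∈ Subgroup.zpowers z → w = 1 := by
    intro w hw hwz
    have h1 : orderOf w ∣ p := by
      have := Subgroup.orderOf_dvd_natCard _ hwz
      rwa [Nat.card_zpowers, ho] at this
    rcases (Nat.dvd_prime hp).mp h1 with h | h
    · exact orderOf_eq_one_iff.mp h
    · exact absurd (h ▸ dvd_refl _) ((hK w).mp hw).2
  have hinj : ∀ q q' : ZMod p × K, z ^ q.1.val * (q.2 : G) = z ^ q'.1.val * (q'.2 : G) → q = q' := by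
    intro q q' h
    have h1 : (z ^ q'.1.val)⁻¹ * z ^ q.1.val = (q'.2 : G) * (q.2 : G)⁻¹ := by
      rw [eq_mul_inv_iff_mul_eq, mul_assoc, h, inv_mul_cancel_left]
    have h2 : (q'.2 : G) * (q.2 : G)⁻¹ = 1 := by
      apply hinter
      · exact K.mul_mem q'.2.2 (K.inv_mem q.2.2)
      · rw [← h1]
        exact Subgroup.mul_mem _ (Subgroup.inv_mem _ (Subgroup.pow_mem _ (Subgroup.mem_zpowers z) _))
          (Subgroup.pow_mem _ (Subgroup.mem_zpowers z) _)
    have h3 : (q'.2 : G) = (q.2 : G) := by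
      rwa [mul_inv_eq_one] at h2
    have h4 : z ^ q.1.val = z ^ q'.1.val := by
      rw [h3] at h; exact mul_right_cancel h
    have h5 : q.1.val = q'.1.val := by
      have := (pow_eq_pow_iff_modEq (x := z)).mp h4
      rw [ho] at this
      have a1 := ZMod.val_lt q.1
      have a2 := ZMod.val_lt q'.1
      unfold Nat.ModEq at this
      rwa [Nat.mod_eq_of_lt a1, Nat.mod_eq_of_lt a2] at this
    exact Prod.ext (ZMod.val_injective p h5) (Subtype.ext h3.symm)
  have hzK : ∀ (t : ℕ) (y : K), Commute (z ^ t) (y : G) := by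
    intro t y
    exact (show Commute z (y : G) from ((hK y).mp y.2).1.symm).pow_left t
  have hmem : ∀ q : ZMod p × K, q.1 ≠ 0 →
      z ^ q.1.val * (q.2 : G) ∈ Subgroup.centralizer ((P : Subgroup G) : Set G) ∧
        p ∣ orderOf (z ^ q.1.val * (q.2 : G)) := by
    intro q hq
    constructor
    · rw [hC]
      have c1 : Commute (z ^ q.1.val) z := (Commute.refl z).pow_left _
      have c2 : Commute (q.2 : G) z := ((hK q.2).mp q.2.2).1
      exact (c1.mul_left c2).eq
    · have hcop : (orderOf (z ^ q.1.val)).Coprime (orderOf (q.2 : G)) := by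
        rw [hord q.1 hq]
        exact (Nat.Prime.coprime_iff_not_dvd hp).mpr ((hK q.2).mp q.2.2).2
      rw [(hzK q.1.val q.2).orderOf_mul_eq_mul_orderOf_of_coprime hcop, hord q.1 hq]
      exact dvd_mul_right _ _
  have hsurj : ∀ x : G, x ∈ Subgroup.centralizer ((P : Subgroup G) : Set G) → p ∣ orderOf x →
      ∃ q : ZMod p × K, q.1 ≠ 0 ∧ z ^ q.1.val * (q.2 : G) = x := by
    intro x hx hpx
    obtain ⟨u, hu⟩ := Cfsg.Agent.Lib.Helper22.exists_isPPart hp x
    obtain ⟨s, hs⟩ := Cfsg.Agent.Lib.Helper22.isPPart_exists_pow hp hu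
    obtain ⟨w, huw, hcuw, ⟨k, hk⟩, hw⟩ := hu
    have hxz : Commute x z := (hC x).mp hx
    have huz : Commute u z := by rw [hs]; exact hxz.pow_left s
    have hwz : Commute w z := by
      have : w = u⁻¹ * x := by rw [← huw, inv_mul_cancel_left]
      rw [this]; exact huz.inv_left.mul_left hxz
    -- `u ∈ zpowers z`
    have hpg : IsPGroup p (Subgroup.zpowers u) := by
      apply IsPGroup.of_card (n := k)
      rw [Nat.card_zpowers, hk]
    have hule : Subgroup.zpowers u ≤ (P : Subgroup G) := by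
      rw [← hpg.sylow_mem_fixedPoints_iff, Subgroup.sylow_mem_fixedPoints_iff]
      rw [Subgroup.zpowers_le]
      have hucent : u ∈ Subgroup.centralizer ((P : Subgroup G) : Set G) := (hC u).mpr huz.eq
      exact Subgroup.centralizer_le_normalizer _ hucent
    have huP : u ∈ Subgroup.zpowers z := by
      rw [hzp]; exact hule (Subgroup.mem_zpowers u)
    have hu1 : u ≠ 1 := by
      intro h
      rw [h, one_mul] at huw
      rw [← huw] at hpx
      exact hw hpx
    obtain ⟨j, hj⟩ := (Subgroup.mem_zpowers_iff).mp huP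
    -- use a natural exponent
    have hjn : ∃ n : ℕ, z ^ n = u := by
      refine ⟨(j % (p : ℤ)).toNat, ?_⟩
      have h0 : 0 ≤ j % (p : ℤ) := Int.emod_nonneg _ (by exact_mod_cast hp.ne_zero)
      rw [← zpow_natCast, Int.toNat_of_nonneg h0, ← hj]
      have := zpow_mod_orderOf z j
      rw [ho] at this
      exact this
    obtain ⟨n, hn⟩ := hjn
    have hwK : w ∈ K := (hK w).mpr ⟨hwz.eq, hw⟩
    refine ⟨((n : ZMod p), ⟨w, hwK⟩), ?_, ?_⟩
    · intro h0
      simp only at h0
      rw [ZMod.natCast_eq_zero_iff] at h0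
      apply hu1
      rw [← hn]
      obtain ⟨c, rfl⟩ := h0
      rw [pow_mul, ← ho, pow_orderOf_eq_one, one_pow]
    · simp only
      rw [ZMod.val_natCast, ← ho, pow_mod_orderOf, hn, huw]
  -- now the bijection
  symm
  have hL : ∑ x : G, (if x ∈ Subgroup.centralizer ((P : Subgroup G) : Set G) ∧ p ∣ orderOf x
        then F x else 0) =
      ∑ x ∈ Finset.univ.filter (fun x : G =>
        x ∈ Subgroup.centralizer ((P : Subgroup G) : Set G) ∧ p ∣ orderOf x), F x := by
    rw [Finset.sum_filter]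
  have hR2 : (∑ q : ZMod p × K, if q.1 = 0 then 0 else F (z ^ q.1.val * (q.2 : G))) =
      ∑ q ∈ Finset.univ.filter (fun q : ZMod p × K => q.1 ≠ 0), F (z ^ q.1.val * (q.2 : G)) := by
    rw [Finset.sum_filter]
    apply Finset.sum_congr rfl
    intro q _
    by_cases h : q.1 = 0 <;> simp [h]
  rw [hL, hR2]
  apply Finset.sum_bij (fun (q : ZMod p × K) _ => z ^ q.1.val * (q.2 : G))
  · intro q hq
    rw [Finset.mem_filter] at hq ⊢
    exact ⟨Finset.mem_univ _, hmem q hq.2⟩
  · intro q _ q' _ h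
    exact hinj q q' h
  · intro x hx
    rw [Finset.mem_filter] at hx
    obtain ⟨q, hq0, hq⟩ := hsurj x hx.2.1 hx.2.2
    exact ⟨q, by rw [Finset.mem_filter]; exact ⟨Finset.mem_univ _, hq0⟩, hq⟩
  · intro q _
    rfl

/-- **TI inner product formula**: if the class function `Δ` vanishes on the `p`-regular elements
then `⟨Δ, ξ⟩_G = |N|⁻¹ ∑_{t ≠ 0} ∑_{y ∈ K} Δ(z^t y) conj ξ(z^t y)`. -/
theorem ti_inner (p : ℕ) [Fact p.Prime] (P : Sylow p G) (hP : Nat.card P = p)
    (z : G) (hz : z ∈ (P : Subgroup G)) (hz1 : z ≠ 1)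
    (K : Subgroup G) [Fintype K] (hK : ∀ y : G, y ∈ K ↔ (y * z = z * y ∧ ¬ p ∣ orderOf y))
    (Δ ξ : G → ℂ) (hΔ : ∀ g h : G, Δ (h * g * h⁻¹) = Δ g)
    (hξ : ∀ g h : G, ξ (h * g * h⁻¹) = ξ g)
    (hΔ0 : ∀ g : G, ¬ p ∣ orderOf g → Δ g = 0) :
    classInner Δ ξ =
      (Nat.card (Subgroup.normalizer ((P : Subgroup G) : Set G)) : ℂ)⁻¹ *
        ∑ t : ZMod p, if t = 0 then 0 else
          ∑ y : K, Δ (z ^ t.val * (y : G)) * conj (ξ (z ^ t.val * (y : G))) := by
  classical
  have h1 := ti_count p P hP (fun g => Δ g * conj (ξ g))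
    (fun g h => by simp only [hΔ g h, hξ g h])
  have h2 := sum_sing_C p P hP z hz hz1 K hK (fun g => Δ g * conj (ξ g))
  rw [h2] at h1
  have h3 : ∑ g : G, Δ g * conj (ξ g) =
      ∑ g : G, (if p ∣ orderOf g then Δ g * conj (ξ g) else 0) := by
    apply Finset.sum_congr rfl
    intro g _
    by_cases hg : p ∣ orderOf g
    · rw [if_pos hg]
    · rw [if_neg hg, hΔ0 g hg, zero_mul]
  unfold classInner
  rw [h3]
  have hN : (Nat.card (Subgroup.normalizer ((P : Subgroup G) : Set G)) : ℂ) ≠ 0 := by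
    exact_mod_cast Nat.card_pos.ne'
  have hG : (Nat.card G : ℂ) ≠ 0 := by
    exact_mod_cast Nat.card_pos.ne'
  field_simp
  linear_combination h1

end Cfsg.Agent.Lib.Helper33.TI
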